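import Cfsg.Agent.OddHalf.D9.LemmaW
import Cfsg.Agent.OddHalf.Iface
import Cfsg.Agent.OddHalf.Small.Alt
import Cfsg.Agent.S0282
import Cfsg.Agent.OddHalf.Small.PslChar
import Cfsg.Agent.WeakTI.ReduceMain
import Cfsg.Agent.WeakTI.ToS1179

/-!
# Standard subgroups with centre of rank two: the end of the proof

`MainTI`: the theorem on weakly closed TI subgroups (`WeakTI`, S1764, S1179) in the form `Red A → InList G`.
`Rows`: the groups of characteristic 2 type in its list. `standard_false`: a standard subgroup `K` of a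
counterexample with a four-group `Z` in the centre, characteristic in `K`, is impossible as soon as `Gamma K Z`
holds: `K` has no four-group `U` of automorphisms centralizing `Z` with `C_K(u) ≤ N(U)` for all `u ∈ U#`.
-/

set_option autoImplicit false
set_option linter.style.haveILetI false

namespace Cfsg.Agent.OddHalf.D9.RankTwo.Core

open Subgroup Cfsg
open Cfsg.Agent.OddHalf.Iface
open Cfsg.Agent.OddHalf.D9.LemmaW

universe u

/-- The theorem on weakly closed TI subgroups. -/
def MainTI : Prop :=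
  ∀ (G : Type u) [Group G] [Finite G] (A : Subgroup G), WeakTI.ReduceComponent.Red A → WeakTI.ReduceMain.InList G

/-- The rows of characteristic 2 type in its list. -/
structure Rows : Prop where
  m22 : IsCharacteristicTwoType ↥Spor.M22
  m23 : IsCharacteristicTwoType ↥Spor.M23
  m24 : IsCharacteristicTwoType ↥M24
  u3 : ∀ (F : Type) [Field F] [Fintype F] (n : ℕ), 2 ≤ n → Fintype.card F = (2 ^ n) ^ 2 →
    IsCharacteristicTwoType (PSU 3 F (2 ^ n))
  sz : ∀ (F : Type) [Field F] [Fintype F] (m : ℕ), 1 ≤ m → Fintype.card F = 2 ^ (2 * m + 1) →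
    IsCharacteristicTwoType ↥(Lie.Sz F (2 ^ (m + 1)))

/-- The list of S1764 is disjoint from the counterexamples. -/
theorem not_inList {G : Type u} [Group G] (R : Rows) (C : Ctx G) (h : WeakTI.ReduceMain.InList G) : False := by
  haveI := C.fin
  haveI := C.simple
  have h2 : ∀ {H : Type} [Group H], (G ≃* H) → IsCharacteristicTwoType H → False := fun e hH =>
    C.notTwo (Small.Generic.isCharacteristicTwoType_congr e.symm hH)
  rcases h with ⟨F, _, _, n, hF, hn, ⟨e⟩⟩ | ⟨F, _, _, m, hm, hF, ⟨e⟩⟩ | ⟨F, _, _, m, hF, ⟨e⟩⟩ | ⟨k, hk, hk', he⟩ |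
    ⟨⟨e⟩⟩ | ⟨⟨e⟩⟩ | ⟨⟨e⟩⟩
  · exact C.notTwo (Small.PslChar.psl hF hn e)
  · exact h2 e (R.sz F m hm hF)
  · rcases Nat.lt_or_ge 1 m with h | h
    · refine h2 e (R.u3 F m h ?_)
      rw [hF, ← pow_mul, mul_comm, pow_mul]
      norm_num
    · have hm0 : m ≠ 0 := by
        rintro rfl
        rw [pow_zero] at hF
        have h3 : 1 < Fintype.card F := Fintype.one_lt_card
        omega
      obtain rfl : m = 1 := by omega
      have h1 : Group.IsSolvable (PSU 3 F 2) := (S0282.result (by rw [hF]; norm_num)).2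
      have h2 : Group.IsSolvable G :=
        Group.isSolvable_of_isSolvable_injective (f := (show G ≃* PSU 3 F 2 from e).toMonoidHom) e.injective
      exact C.na ⟨⟨IsSimpleGroup.comm_iff_isSolvable.2 h2⟩⟩
  · by_cases h68 : k = 5 ∨ k = 6 ∨ k = 8
    · exact C.notTwo (Small.Alt.result h68 he)
    · exact C.nc (Or.inr (Or.inl ⟨k, by omega, he⟩))
  · exact h2 e R.m22
  · exact h2 e R.m23
  · exact h2 e R.m24

/-- No weakly closed TI subgroup in a counterexample. -/
theorem not_weaklyClosed {G : Type u} [Group G] (T : MainTI.{u}) (R : Rows) (C : Ctx G) (A : Subgroup G)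
    (hA : IsElementaryAbelian 2 A) (hA1 : A ≠ ⊥)
    (hwc : ∀ a ∈ A, a ≠ 1 → ∀ g : G, A.map (MulAut.conj g).toMonoidHom ≤ centralizer ({a} : Set G) →
      A.map (MulAut.conj g).toMonoidHom = A) : False := by
  haveI := C.fin
  haveI := C.simple
  have hne : ∃ a b : G, a * b ≠ b * a := by
    by_contra hcon
    push Not at hcon
    exact C.na ⟨⟨hcon⟩⟩
  have hw := WeakTI.Basic.wti_of_centralizer hA hA1 hwc
  exact not_inList R C (T G A (WeakTI.ToS1179.red_of_simple hne hw))

end Cfsg.Agent.OddHalf.D9.RankTwo.Core
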