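import Cfsg.Agent.OddHalf.D9.RankTwo.StdFalse
import Cfsg.Agent.OddHalf.D9.Cut
import Cfsg.Agent.OddHalf.D9.L34Mult.Row

/-!
# The rows `(4 × 2).L3(4)`, `(4 × 4).L3(4)`
-/

set_option autoImplicit false

namespace Cfsg.Agent.OddHalf.D9.RankTwo.LThreeRow

open Subgroup Cfsg
open Cfsg.Agent.OddHalf.Iface
open Cfsg.Agent.OddHalf.D9.RankTwo.Core
open Cfsg.Agent.OddHalf.D9.RankTwo.StdFalse

universe u

/-- **The row.** -/
theorem false_of_l34 {G : Type u} [Group G] (T : MainTI.{u}) (R : Rows) (C : Ctx G) {K : Subgroup G}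
    (hK : IsStandardSubgroup K) (h2 : IsPGroup 2 (center ↥K)) (hnc : ¬ IsCyclic (center ↥K))
    (hnk : ¬ IsKleinFour (center ↥K)) (hX : Cut.XL34 (↥K ⧸ center ↥K)) : False := by
  have := C.fin
  obtain ⟨F, _, _, hF, ⟨e⟩⟩ := hX
  have hp : _root_.commutator ↥K = ⊤ := (show Group.IsPerfect ↥K from hK.1.1).commutator_eq_top
  have hcard := L34Mult.card_omega hp h2 hF e hnc
  have hne := L34Mult.Row.exists_sq_ne hcard hnk
  refine std_false T R C hK ?_ ?_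
  · rw [card_omg, ← hcard]
    refine Nat.card_congr ⟨fun z => ⟨z.1.1, z.1.2, ?_⟩, fun z => ⟨⟨z.1, z.2.1⟩, ?_⟩, fun z => rfl, fun z => rfl⟩
    · exact congrArg Subtype.val z.2
    · exact Subtype.ext z.2.2
  · intro U hU2 hU4 hUK hUC _ hUN
    exact L34Mult.Gamma.gamma hp h2 hF e hne U hU2 hU4 hUK hUC hUN

end Cfsg.Agent.OddHalf.D9.RankTwo.LThreeRow
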