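import Cfsg.Agent.OddHalf.D9.RankTwo.SzRow
import Cfsg.Agent.OddHalf.D9.RankTwo.LThreeRow
import Cfsg.Agent.OddHalf.D9.Gamma
import Cfsg.Agent.OddHalf.D9.GamUSix
import Cfsg.Agent.OddHalf.D4.Cut

/-!
# ODD half, D4: the rows with `Z(K)` not cyclic

`v_sz8`, `non_l34`: the rows `v_sz8`, `non_l34` of `D4.Cut.RowsCov`; `v_row`: the rows `v_u62`, `v_o82`, `v_2e62` from
`¬ Tied X` and the innerness of the automorphisms of `2².X` which centralise the centre. No hypothesis on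
the 2-rank of `C(K)` and no maximality.
-/

set_option autoImplicit false
set_option linter.style.haveILetI false

namespace Cfsg.Agent.OddHalf.D9.RankTwo.RowsD4

open Subgroup Cfsg
open Cfsg.Agent.OddHalf.Iface
open Cfsg.Agent.OddHalf.D9.RankTwo.Core
open Cfsg.Agent.OddHalf.D9.RankTwo.StdFalse
open Cfsg.Agent.OddHalf.D9.Gamma
open Cfsg.Agent.OddHalf.D9.Cut
open Cfsg.Agent.OddHalf.D4.Cut

universe u

/-- The row of a property of `K`: standard, any centralizer. -/
def RowA (P : (K : Type u) → [Group K] → Prop) : Prop :=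
  ∀ (G : Type u) [Group G], Ctx G → ∀ K : Subgroup G, Std0 G K → P ↥K → False

theorem RowA.row0 {P : (K : Type u) → [Group K] → Prop} (h : RowA P) : Row0 P :=
  fun G _ C K S _ hP => h G C K S hP

/-- The automorphisms of `K` which are trivial on `Z(K)` are inner. -/
def InnerOne (K : Type u) [Group K] : Prop :=
  ∀ α : MulAut K, (∀ z ∈ center K, α z = z) → ∃ k : K, ∀ x, α x = k * x * k⁻¹

/-- Innerness for all covers `2².X`, `X` of type `P`. -/
def InnerFor (P : (X : Type u) → [Group X] → Prop) : Prop :=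
  ∀ (K : Type u) [Group K], Finite K → _root_.commutator K = ⊤ → Nat.card ↥(center K) = 4 →
    P (K ⧸ center K) → InnerOne K

/-- (GAMMA) from `¬ Tied (K / Z(K))` -/
theorem gamma_of_tied {G : Type u} [Group G] {K : Subgroup G} (hel : ∀ z ∈ center ↥K, z * z = 1)
    (hI : InnerOne ↥K) (hX : ¬ Tied (↥K ⧸ center ↥K)) : GammaFor K := by
  intro U hU2 hU4 hUN hUC hUZ hUk
  refine hX (tied hU2 hU4 hUC (fun u hu => ?_) hUk)
  have huN := hUN hu
  obtain ⟨k, hk⟩ := hI (K.normalizerMonoidHom ⟨u, huN⟩) (by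
    intro z hz
    apply Subtype.ext
    have h1 : (z : G) ∈ omg K :=
      mem_omg_iff.mpr ⟨z.2, hz, congrArg Subtype.val (hel z hz)⟩
    have h2 := hUZ u hu z h1
    show u * (z : G) * u⁻¹ = z
    rw [h2]; group)
  refine ⟨k, k.2, (k : G)⁻¹ * u, ?_, by group⟩
  rw [mem_centralizer_iff]
  intro x hx
  have h1 : u * x * u⁻¹ = (k : G) * x * (k : G)⁻¹ := congrArg Subtype.val (hk ⟨x, hx⟩)
  calc x * ((k : G)⁻¹ * u) = (k : G)⁻¹ * ((k : G) * x * (k : G)⁻¹) * u := by group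
    _ = (k : G)⁻¹ * (u * x * u⁻¹) * u := by rw [h1]
    _ = (k : G)⁻¹ * u * x := by group

theorem klein_sq {K : Type u} [Group K] (h : IsKleinFour ↥(center K)) : ∀ z ∈ center K, z * z = 1 := by
  intro z hz
  have := h.mul_self (⟨z, hz⟩ : ↥(center K))
  exact congrArg Subtype.val this

theorem klein_omg {G : Type u} [Group G] {K : Subgroup G} (h : IsKleinFour ↥(center ↥K)) :
    Nat.card (omg K) = 4 := by
  rw [card_omg, ← h.card_four]
  refine Nat.card_congr ⟨fun z => z.1, fun z => ⟨z, h.mul_self z⟩, fun z => rfl, fun z => rfl⟩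

/-- **The rows `2².X`**, `X` without tied involutions. -/
theorem v_row (T : MainTI.{u}) (R : Core.Rows) {P : (X : Type u) → [Group X] → Prop}
    (hT : ∀ (X : Type u) [Group X], P X → ¬ Tied X) (hI : InnerFor.{u} P) :
    RowA.{u} (fun K _ => Vier P K) := by
  intro G _ C K S hP
  haveI := C.fin
  have hp : _root_.commutator ↥K = ⊤ := (show Group.IsPerfect ↥K from S.std.1.1).commutator_eq_top
  exact std_false T R C S.std (klein_omg hP.1)
    (gamma_of_tied (klein_sq hP.1) (hI _ inferInstance hp hP.1.card_four hP.2) (hT _ hP.2))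

/-- **`2².Sz(8)`** -/
theorem v_sz8 (T : MainTI.{u}) (R : Core.Rows) : RowA.{u} (fun K _ => Vier (fun X _ => XSz8 X) K) := by
  intro G _ C K S hP
  refine SzRow.false_of_sz T R C S.std S.z2 ?_ ?_
  · intro hc
    have := hP.1
    exact IsKleinFour.not_isCyclic hc
  · obtain ⟨F, i1, i2, hF, ⟨e⟩⟩ := hP.2
    exact ⟨F, i1, i2, 1, le_refl 1, by rw [hF]; norm_num, ⟨e⟩⟩

/-- **`(4 × 2).L₃(4)`, `(4 × 4).L₃(4)`** -/
theorem non_l34' (T : MainTI.{u}) (R : Core.Rows) :
    RowA.{u} (fun K _ => ¬ IsCyclic ↥(center K) ∧ ¬ IsKleinFour ↥(center K) ∧ XL34 (K ⧸ center K)) := by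
  intro G _ C K S hP
  exact LThreeRow.false_of_l34 T R C S.std S.z2 hP.1 hP.2.1 hP.2.2

/-- The row `non_l34` of `D4.Cut.RowsCov`. -/
theorem non_l34 (T : MainTI.{u}) (R : Core.Rows) :
    Row0.{u} (fun K _ => ¬ IsCyclic ↥(center K) ∧ ¬ IsKleinFour ↥(center K) ∧
    (Nat.card ↥(center K) = 8 ∨ Nat.card ↥(center K) = 16) ∧
    Nat.card {z : ↥(center K) // z * z = 1} = 4 ∧ XL34 (K ⧸ center K)) :=
  fun G _ C K S _ hP => non_l34' T R G C K S ⟨hP.1, hP.2.1, hP.2.2.2.2⟩

/-- `U₆(2)` has no tied pair of involutions -/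
theorem not_tied_u62 {X : Type u} [Group X] (h : XU62 X) : ¬ Tied X := by
  obtain ⟨F, i1, i2, hF, ⟨e⟩⟩ := h
  exact fun hX => GamUSix.not_tied (by rw [hF]; norm_num) (Tied.of_equiv e hX)

/-- **`2².U₆(2)`** -/
theorem v_u62 (T : MainTI.{u}) (R : Core.Rows) (hI : InnerFor.{u} (fun X _ => XU62 X)) :
    RowA.{u} (fun K _ => Vier (fun X _ => XU62 X) K) :=
  v_row T R (fun _ _ h => not_tied_u62 h) hI

end Cfsg.Agent.OddHalf.D9.RankTwo.RowsD4
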