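import Cfsg.Agent.OddHalf.D9.RankTwo.Core
import Cfsg.Agent.OddHalf.Small.RowsFull
import Cfsg.Agent.OddHalf.Small.M24Char

/-!
# `Core.Rows`: the groups of characteristic 2 type in the list of the theorem on TI subgroups
-/

set_option autoImplicit false

namespace Cfsg.Agent.OddHalf.D9.RankTwo.RowsFull

open Cfsg

theorem rows : Core.Rows where
  m22 := Small.Mathieu.charTwo_M22
  m23 := Small.Mathieu.charTwo_M23
  m24 := Small.M24Char.charTwo_M24
  u3 F _ _ n hn hF := Small.RankOne.u3 F n (by omega) hF ⟨MulEquiv.refl _⟩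
  sz F _ _ m hm hF := Small.RankOne.sz ⟨F, _, _, m, hm, hF, ⟨MulEquiv.refl _⟩⟩

end Cfsg.Agent.OddHalf.D9.RankTwo.RowsFull
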