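import Cfsg.Agent.OddHalf.D9.RankTwo.InnU
import Cfsg.Agent.OddHalf.D9.RankTwo.RowsD4
import Cfsg.Agent.OddHalf.D9.MultOf
import Cfsg.Agent.OddHalf.D4.MultOf

/-!
# The rows `U₆(2)` of the multiplier tables and of the centres of rank two (helper103)

`u62`: `TwoRows.u62`; `u62All`: `VRows.u62`; `inner_for`: innerness; `v_u62`: the row `2².U₆(2)`.
-/

set_option autoImplicit false

namespace Cfsg.Agent.OddHalf.D9.RankTwo.RowsU

open Subgroup Cfsg.Agent.OddHalf.D9.Cut Cfsg.Agent.OddHalf.D9.MultOf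

universe u

/-- every central 2-subgroup: exponent two, order at most four -/
theorem le_four {K : Type u} [Group K] [Finite K] (hp : _root_.commutator K = ⊤) (h2 : IsPGroup 2 (center K))
    (hX : XU62 (K ⧸ center K)) : (∀ z ∈ center K, z * z = 1) ∧ Nat.card (center K) ≤ 4 := by
  obtain ⟨F, iF, iF2, hF, ⟨e⟩⟩ := hX
  exact LamOval.card_le hp (center K) le_rfl h2 hF e

/-- **`TwoRows.u62`** -/
theorem u62 : Bd.{u} 2 (fun X _ => XU62 X) := by
  intro K _ hK hX
  have := hK.1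
  have hc := hK.2.2.2
  have h := le_four hK.2.1.1.commutator_eq_top hK.2.2.1 hX
  have h1 : Nat.card (center K) ≤ 2 :=
    Cfsg.Agent.KFacts.OddLift.Frat.card_le_two_of_cyclic (Z := center K)
      (fun z => Subtype.ext (h.1 z.1 z.2))
  have h3 := Nat.card_pos (α := center K)
  rcases (show Nat.card (center K) = 1 ∨ Nat.card (center K) = 2 by omega) with h2 | h2 <;> rw [h2]
  exact one_dvd 2

/-- **`VRows.u62`** -/
theorem u62All : Cfsg.Agent.OddHalf.D4.MultOf.BdAll.{u} (fun X _ => XU62 X) := by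
  intro K _ hf hq h2 hX
  have h := le_four hq.1.commutator_eq_top h2 hX
  obtain ⟨k, hk⟩ := IsPGroup.iff_card.1 h2
  rw [hk]
  have h5 := h.2
  rw [hk] at h5
  have : k ≤ 2 := by
    by_contra hc
    have h6 : 2 ^ 3 ≤ 2 ^ k := Nat.pow_le_pow_right (by norm_num) (by omega)
    omega
  exact pow_dvd_pow 2 this

/-- **Innerness** -/
theorem inner_for : RowsD4.InnerFor.{u} (fun X _ => XU62 X) := by
  intro K _ hf hp h4 hX
  exact InnU.inner hp h4 hX

/-- **The row `2².U₆(2)`** -/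
theorem v_u62 (T : Core.MainTI.{u}) (R : Core.Rows) :
    RowsD4.RowA.{u} (fun K _ => Cfsg.Agent.OddHalf.D4.Cut.Vier (fun X _ => XU62 X) K) :=
  RowsD4.v_u62 T R inner_for

end Cfsg.Agent.OddHalf.D9.RankTwo.RowsU
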