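import Mathlib

/-!
# Finite abelian 2-groups

* a finite commutative 2-group with at most one involution is cyclic;
* the number of `x` with `x * x = 1` is the index of the subgroup of squares.
-/

set_option autoImplicit false
set_option linter.unusedSectionVars false

namespace Cfsg.Agent.OddHalf.D9.RankTwo.Abel

variable {V : Type*} [CommGroup V] [Finite V]

theorem card_eq_ker_mul_range {X Y : Type*} [Group X] [Group Y] (f : X →* Y) :
    Nat.card X = Nat.card f.ker * Nat.card f.range := by
  rw [← Subgroup.index_ker, Subgroup.card_mul_index]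

/-- `|V| = |Ω₁(V)| |V²|`. -/
theorem card_sq : Nat.card V = Nat.card (powMonoidHom (α := V) 2).ker * Nat.card (powMonoidHom (α := V) 2).range :=
  card_eq_ker_mul_range _

theorem card_pow_ker (h : Nat.card (powMonoidHom (α := V) 2).ker ≤ 2) (k : ℕ) :
    Nat.card (powMonoidHom (α := V) (2 ^ k)).ker ≤ 2 ^ k := by
  induction k with
  | zero =>
    have : (powMonoidHom (α := V) (2 ^ 0)).ker = ⊥ := by
      rw [eq_bot_iff]
      intro x hx
      have h1 : x ^ (2 ^ 0) = 1 := hx
      rw [pow_zero, pow_one] at h1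
      exact Subgroup.mem_bot.mpr h1
    rw [this]
    simp
  | succ k ih =>
    let f : (powMonoidHom (α := V) (2 ^ (k + 1))).ker →* V := (powMonoidHom 2).comp (Subgroup.subtype _)
    have h1 := card_eq_ker_mul_range f
    have h2 : Nat.card f.ker ≤ Nat.card (powMonoidHom (α := V) 2).ker := by
      refine Nat.card_le_card_of_injective (fun x => ⟨x.1.1, x.2⟩) ?_
      intro x y hxy
      have h0 := congrArg (fun z : (powMonoidHom (α := V) 2).ker => (z : V)) hxy
      exact Subtype.ext (Subtype.ext h0)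
    have h3 : f.range ≤ (powMonoidHom (α := V) (2 ^ k)).ker := by
      rintro _ ⟨⟨x, hx⟩, rfl⟩
      have h4 : x ^ (2 ^ (k + 1)) = 1 := hx
      show (x ^ 2) ^ (2 ^ k) = 1
      rw [← pow_mul, ← pow_succ', h4]
    have h5 : Nat.card f.range ≤ Nat.card (powMonoidHom (α := V) (2 ^ k)).ker :=
      Nat.card_le_card_of_injective (Subgroup.inclusion h3) (Subgroup.inclusion_injective h3)
    calc Nat.card (powMonoidHom (α := V) (2 ^ (k + 1))).ker = Nat.card f.ker * Nat.card f.range := h1
      _ ≤ 2 * 2 ^ k := Nat.mul_le_mul (h2.trans h) (h5.trans ih)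
      _ = 2 ^ (k + 1) := (pow_succ' 2 k).symm

/-- At most one involution: cyclic. -/
theorem isCyclic_of_card_le (hV : IsPGroup 2 V) (h : Nat.card (powMonoidHom (α := V) 2).ker ≤ 2) :
    IsCyclic V := by
  classical
  have := Fintype.ofFinite V
  apply isCyclic_of_card_pow_eq_one_le
  intro n hn
  obtain ⟨k, m, hm, rfl⟩ := Nat.exists_eq_two_pow_mul_odd hn.ne'
  have h1 : ∀ x : V, x ^ (2 ^ k * m) = 1 → x ^ (2 ^ k) = 1 := by
    intro x hx
    obtain ⟨j, hj⟩ := hV x
    have h2 : orderOf (x ^ 2 ^ k) ∣ m := by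
      apply orderOf_dvd_of_pow_eq_one
      rw [← pow_mul, hx]
    have h3 : orderOf (x ^ 2 ^ k) ∣ 2 ^ j := by
      apply orderOf_dvd_of_pow_eq_one
      rw [← pow_mul, mul_comm, pow_mul, hj, one_pow]
    have h4 : Nat.Coprime m (2 ^ j) := Nat.Coprime.pow_right j (Nat.coprime_two_right.mpr hm)
    have h5 := Nat.Coprime.eq_one_of_dvd (Nat.Coprime.coprime_dvd_left h2 h4) h3
    exact orderOf_eq_one_iff.mp h5
  have h2 : (Finset.univ.filter fun x : V => x ^ (2 ^ k * m) = 1).card ≤
      Nat.card (powMonoidHom (α := V) (2 ^ k)).ker := by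
    rw [Nat.card_eq_fintype_card, ← Finset.card_univ, ← Finset.card_image_of_injective (f := Subtype.val)
      Finset.univ Subtype.val_injective]
    apply Finset.card_le_card
    intro x hx
    rw [Finset.mem_filter] at hx
    rw [Finset.mem_image]
    exact ⟨⟨x, h1 x hx.2⟩, Finset.mem_univ _, rfl⟩
  have h3 := card_pow_ker h k
  have h4 : 1 ≤ m := hm.pos
  calc _ ≤ _ := h2
    _ ≤ 2 ^ k := h3
    _ ≤ 2 ^ k * m := Nat.le_mul_of_pos_right _ h4

end Cfsg.Agent.OddHalf.D9.RankTwo.Abel
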