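import Mathlib
import Cfsg.Prelude.Def_SporadicB

/-!
# A non-split double cover below a perfect group with centre of order four
-/

set_option autoImplicit false

namespace Cfsg.Agent.OddHalf.D9.RankTwo.Double

open Subgroup
open scoped commutatorElement

universe u v

/-- elements of a perfect group all of whose commutators are central are central -/
theorem mem_center_of {K : Type u} [Group K] (hperf : commutator K = ⊤) {x : K}
    (hx : ∀ y : K, x * y * x⁻¹ * y⁻¹ ∈ center K) : x ∈ center K := by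
  let f : K →* center K :=
    { toFun := fun y => ⟨x * y * x⁻¹ * y⁻¹, hx y⟩
      map_one' := Subtype.ext (by show x * 1 * x⁻¹ * 1⁻¹ = 1; group)
      map_mul' := by
        intro a b
        apply Subtype.ext
        show x * (a * b) * x⁻¹ * (a * b)⁻¹ = x * a * x⁻¹ * a⁻¹ * (x * b * x⁻¹ * b⁻¹)
        have h1 := mem_center_iff.1 (hx b) a
        calc x * (a * b) * x⁻¹ * (a * b)⁻¹ = x * a * x⁻¹ * (x * b * x⁻¹ * b⁻¹) * a⁻¹ := by group
          _ = x * a * x⁻¹ * a⁻¹ * (a * (x * b * x⁻¹ * b⁻¹)) * a⁻¹ := by group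
          _ = x * a * x⁻¹ * a⁻¹ * ((x * b * x⁻¹ * b⁻¹) * a) * a⁻¹ := by rw [h1]
          _ = _ := by group }
  have hk : (⊤ : Subgroup K) ≤ f.ker := by
    rw [← hperf, commutator_def, commutator_le]
    intro a _ b _
    rw [MonoidHom.mem_ker, map_commutatorElement, commutatorElement_eq_one_iff_mul_comm]
    apply Subtype.ext
    exact (mem_center_iff.1 (f b).2 (f a : K))
  rw [mem_center_iff]
  intro y
  have h1 : f y = 1 := MonoidHom.mem_ker.1 (hk (mem_top y))
  have h2 : x * y * x⁻¹ * y⁻¹ = 1 := congrArg Subtype.val h1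
  rw [mul_inv_eq_one, mul_inv_eq_iff_eq_mul] at h2
  exact h2.symm

/-- **A double cover**, from a subgroup of index two of the centre. -/
theorem exists_double_of {K : Type u} [Group K] [Finite K] {E : Type v} [Group E] (hperf : commutator K = ⊤)
    {π : K →* E} (hπ : Function.Surjective π) (hker : π.ker = center K) (N : Subgroup K) (hNZ : N ≤ center K)
    (hidx : N.relIndex (center K) = 2) : ∃ (M : Type u) (_ : Group M), Cfsg.IsNonsplitDoubleCover M E := by
  have hNn : N.Normal := ⟨fun x hx g => by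
    have h1 := mem_center_iff.1 (hNZ hx) g
    rwa [h1, mul_inv_cancel_right]⟩
  let mk : K →* K ⧸ N := QuotientGroup.mk' N
  have hmk : Function.Surjective mk := QuotientGroup.mk'_surjective _
  have hmkk : mk.ker = N := QuotientGroup.ker_mk' _
  have hC : center (K ⧸ N) = (center K).map mk := by
    apply le_antisymm
    · intro c hc
      obtain ⟨x, rfl⟩ := hmk c
      refine ⟨x, mem_center_of hperf fun y => hNZ ?_, rfl⟩
      rw [← hmkk, MonoidHom.mem_ker, map_mul, map_mul, map_mul, map_inv, map_inv,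
        ← mem_center_iff.1 hc (mk y)]
      group
    · rintro _ ⟨x, hx, rfl⟩
      rw [mem_center_iff]
      intro c
      obtain ⟨y, rfl⟩ := hmk c
      rw [← map_mul, ← map_mul, mem_center_iff.1 hx y]
  have hcard : Nat.card (center (K ⧸ N)) = 2 := by
    rw [hC, ← relIndex_ker, hmkk]
    exact hidx
  have hperf' : commutator (K ⧸ N) = ⊤ := by
    have h1 : (commutator K).map mk = commutator (K ⧸ N) := by
      rw [commutator_def, map_commutator, commutator_def, ← MonoidHom.range_eq_map,
        MonoidHom.range_eq_top.2 hmk]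
    rw [← h1, hperf, ← MonoidHom.range_eq_map, MonoidHom.range_eq_top.2 hmk]
  let π' : K ⧸ N →* E := QuotientGroup.lift N π (by
    intro x hx
    have h1 : x ∈ π.ker := by rw [hker]; exact hNZ hx
    exact MonoidHom.mem_ker.1 h1)
  have hπ' : ∀ x, π' (mk x) = π x := fun x => rfl
  have hsurj : Function.Surjective π' := fun e => by
    obtain ⟨x, rfl⟩ := hπ e
    exact ⟨mk x, rfl⟩
  have hker' : π'.ker = center (K ⧸ N) := by
    rw [hC]
    ext c
    obtain ⟨x, rfl⟩ := hmk c
    rw [MonoidHom.mem_ker, hπ' x]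
    constructor
    · intro h
      refine ⟨x, ?_, rfl⟩
      rw [← hker]
      exact h
    · rintro ⟨y, hy, hyx⟩
      have h1 : y⁻¹ * x ∈ mk.ker := by
        rw [MonoidHom.mem_ker, map_mul, map_inv, hyx, inv_mul_cancel]
      rw [hmkk] at h1
      have h2 : x = y * (y⁻¹ * x) := by group
      have h3 : x ∈ π.ker := by
        rw [hker, h2]
        exact mul_mem hy (hNZ h1)
      exact h3
  refine ⟨K ⧸ N, inferInstance, hcard, ⟨?_⟩, ?_⟩
  · exact (QuotientGroup.quotientMulEquivOfEq hker'.symm).trans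
      (QuotientGroup.quotientKerEquivOfSurjective π' hsurj)
  · intro L hL
    have hle : commutator (K ⧸ N) ≤ L := by
      rw [commutator_def, commutator_le]
      intro a _ b _
      obtain ⟨⟨⟨c, hc⟩, ⟨l, hl⟩⟩, hcl⟩ := hL.2 a
      obtain ⟨⟨⟨d, hd⟩, ⟨m, hm⟩⟩, hdm⟩ := hL.2 b
      have hcl' : c * l = a := hcl
      have hdm' : d * m = b := hdm
      have hc' : ∀ g, g * c = c * g := mem_center_iff.1 hc
      have hd' : ∀ g, g * d = d * g := mem_center_iff.1 hd
      have e : ⁅a, b⁆ = l * m * l⁻¹ * m⁻¹ := by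
        rw [← hcl', ← hdm', commutatorElement_def, mul_inv_rev, mul_inv_rev]
        calc c * l * (d * m) * (l⁻¹ * c⁻¹) * (m⁻¹ * d⁻¹)
            = c * (l * d) * m * l⁻¹ * (c⁻¹ * m⁻¹ * d⁻¹) := by group
          _ = c * (d * l) * m * l⁻¹ * (c⁻¹ * m⁻¹ * d⁻¹) := by rw [hd' l]
          _ = (c * (d * l * m * l⁻¹)) * (c⁻¹ * m⁻¹ * d⁻¹) := by group
          _ = ((d * l * m * l⁻¹) * c) * (c⁻¹ * m⁻¹ * d⁻¹) := by rw [← hc' (d * l * m * l⁻¹)]
          _ = d * (l * m * l⁻¹ * m⁻¹) * d⁻¹ := by group
          _ = (l * m * l⁻¹ * m⁻¹) * d * d⁻¹ := by rw [← hd' (l * m * l⁻¹ * m⁻¹)]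
          _ = l * m * l⁻¹ * m⁻¹ := by group
      rw [e]
      exact mul_mem (mul_mem (mul_mem hl hm) (inv_mem hl)) (inv_mem hm)
    rw [hperf', top_le_iff] at hle
    have h1 := hL.disjoint
    rw [hle, disjoint_top] at h1
    rw [h1, card_bot] at hcard
    omega

/-- **A double cover** below a perfect group whose centre is a nontrivial 2-group. -/
theorem exists_double {K : Type u} [Group K] [Finite K] {E : Type v} [Group E] (hperf : commutator K = ⊤)
    {π : K →* E} (hπ : Function.Surjective π) (hker : π.ker = center K) (h2 : IsPGroup 2 (center K))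
    (hne : center K ≠ ⊥) : ∃ (M : Type u) (_ : Group M), Cfsg.IsNonsplitDoubleCover M E := by
  have hp2 : Fact (Nat.Prime 2) := ⟨Nat.prime_two⟩
  obtain ⟨n, hn⟩ := IsPGroup.iff_card.1 h2
  obtain ⟨m, rfl⟩ : ∃ m, n = m + 1 := by
    rcases n with _ | m
    · exfalso
      apply hne
      rw [pow_zero] at hn
      exact card_eq_one.1 hn
    · exact ⟨m, rfl⟩
  obtain ⟨N, hN⟩ := Sylow.exists_subgroup_card_pow_prime (G := center K) 2 (n := m)
    (by rw [hn]; exact pow_dvd_pow 2 (Nat.le_succ m))
  refine exists_double_of hperf hπ hker (N.map (center K).subtype) ?_ ?_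
  · rintro _ ⟨x, -, rfl⟩
    exact x.2
  · rw [relIndex, subgroupOf, comap_map_eq_self_of_injective (center K).subtype_injective]
    have h3 := N.card_mul_index
    rw [hn, hN, pow_succ] at h3
    exact Nat.eq_of_mul_eq_mul_left (pow_pos two_pos m) h3

end Cfsg.Agent.OddHalf.D9.RankTwo.Double
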