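import Mathlib

/-!
# GAMMA from a class of root involutions   (rank two centre)

`E` is a group with a class `R` of involutions ("roots"). `U` is a four-group normalising `K`, `K / Z(K) ≅ E`,
`U ∩ C(K) = 1` and `C_K(u) ≤ N(U)` for `u ∈ U#`. The facts `Facts E R` make this impossible.
-/

set_option autoImplicit false

namespace Cfsg.Agent.OddHalf.D9.RankTwo.Gamma

open Subgroup
open scoped commutatorElement

universe u v

/-- Facts about the roots of `E`. -/
structure Facts (E : Type v) [Group E] (R : Set E) : Prop where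
  cen : center E = ⊥
  perf : ∀ r ∈ R, ⁅centralizer ({r} : Set E), centralizer ({r} : Set E)⁆ = centralizer ({r} : Set E)
  inv : ∀ (φ : MulAut E), ∀ r ∈ R, φ r ∈ R
  /-- a fixed point criterion for the involutions which are not roots -/
  fix : ∀ b : E, b * b = 1 → b ≠ 1 → b ∉ R → ∀ φ : MulAut E, φ b = b →
    (∀ y ∈ R, y * b = b * y → y * b ∉ R → φ y = y) →
      ∃ x, φ = MulAut.conj x ∧ (x = 1 ∨ x = b ∨ x ∈ R ∨ b * x ∈ R)
  /-- ... and for the roots -/
  fixR : ∀ b ∈ R, ∀ φ : MulAut E, (∀ y, y * b = b * y → φ y = y) → φ = 1 ∨ φ = MulAut.conj b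
  /-- the outer automorphism group has no four-groups -/
  out : ∀ φ ψ : MulAut E, φ * φ = 1 → ψ * ψ = 1 → φ * ψ = ψ * φ →
    (∃ x, φ = MulAut.conj x) ∨ (∃ x, ψ = MulAut.conj x) ∨ ∃ x, φ * ψ = MulAut.conj x

variable {G : Type u} [Group G] {E : Type v} [Group E]

/-- the cover -/
structure Cov (K : Subgroup G) (π : ↥K →* E) : Prop where
  perf : commutator ↥K = ⊤
  surj : Function.Surjective π
  ker : π.ker = center ↥K

namespace Cov

variable {K : Subgroup G} {π : ↥K →* E} (h : Cov K π)
include h

/-- the action of `N(K)` on `E` -/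
theorem exists_act : ∃ α : normalizer (K : Set G) →* MulAut E,
    ∀ (n : normalizer (K : Set G)) (k : K), α n (π k) = π (K.normalizerMonoidHom n k) := by
  have hchar : ∀ φ : MulAut K, (π.ker).map φ.toMonoidHom = π.ker := by
    intro φ
    rw [h.ker]
    exact (Subgroup.characteristic_iff_map_eq.1 inferInstance) φ
  let e : K ⧸ π.ker ≃* E := QuotientGroup.quotientKerEquivOfSurjective π h.surj
  have he : ∀ k : K, e (QuotientGroup.mk k) = π k := fun k => rfl
  have key : ∀ φ : MulAut K, ∃ β : MulAut E, ∀ k, β (π k) = π (φ k) := by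
    intro φ
    let c : K ⧸ π.ker ≃* K ⧸ π.ker := QuotientGroup.congr π.ker π.ker φ (hchar φ)
    refine ⟨(e.symm.trans c).trans e, fun k => ?_⟩
    show e (c (e.symm (π k))) = π (φ k)
    rw [← he k, e.symm_apply_apply]
    rfl
  choose β hβ using fun n : normalizer (K : Set G) => key (K.normalizerMonoidHom n)
  refine ⟨{ toFun := β, map_one' := ?_, map_mul' := ?_ }, hβ⟩
  · ext x
    obtain ⟨k, rfl⟩ := h.surj x
    rw [hβ, map_one]
    rfl
  · intro a b
    ext x
    obtain ⟨k, rfl⟩ := h.surj x
    rw [hβ, map_mul, MulAut.mul_apply, MulAut.mul_apply, hβ, hβ]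

/-- elements acting trivially on `K / Z(K)` centralise `K` -/
theorem centralizes {c : G} (hc : ∀ k : K, ∃ z : K, z ∈ center ↥K ∧ c * k * c⁻¹ = k * z) (k : K) :
    c * k = k * c := by
  choose z hz hcz using hc
  -- `k ↦ z k` is a homomorphism
  let f : K →* center ↥K :=
    { toFun := fun k => ⟨z k, hz k⟩
      map_one' := by
        apply Subtype.ext
        apply Subtype.ext
        have := hcz 1
        show ((z 1 : K) : G) = 1
        simpa using this.symm
      map_mul' := by
        intro a b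
        apply Subtype.ext
        apply Subtype.ext
        show ((z (a * b) : K) : G) = (z a : G) * (z b : G)
        have h1 := hcz (a * b)
        have h2 : c * ((a * b : K) : G) * c⁻¹ = (c * a * c⁻¹) * (c * b * c⁻¹) := by
          rw [Subgroup.coe_mul]; group
        rw [h2, hcz a, hcz b] at h1
        have h3 : (z a : G) * (b : G) = b * z a := by
          have := mem_center_iff.1 (hz a) b
          exact (congrArg Subtype.val this).symm
        have h4 : (a : G) * (z a) * (b * z b) = a * b * (z a * z b) := by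
          calc (a : G) * (z a) * (b * z b) = a * (z a * b) * z b := by group
            _ = a * (b * z a) * z b := by rw [h3]
            _ = a * b * (z a * z b) := by group
        rw [h4, Subgroup.coe_mul] at h1
        exact (mul_left_cancel h1).symm }
  have hf : f = 1 := by
    have hk : (⊤ : Subgroup K) ≤ f.ker := by
      rw [← h.perf, commutator_def, commutator_le]
      intro a _ b _
      rw [MonoidHom.mem_ker, map_commutatorElement, commutatorElement_eq_one_iff_mul_comm]
      apply Subtype.ext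
      exact (mem_center_iff.1 (f b).2 (f a : K))
    ext x
    exact congrArg (fun y : center ↥K => ((y : K) : G)) (MonoidHom.mem_ker.1 (hk (mem_top x)))
  have h1 : z k = 1 := by
    have := congrArg (fun g => (g k : center ↥K)) hf
    exact congrArg Subtype.val this
  have h2 := hcz k
  rw [h1, Subgroup.coe_one, mul_one] at h2
  exact mul_inv_eq_iff_eq_mul.1 h2

/-- a subgroup of `π⁻¹(P)`, `P` perfect, containing the commutators and the centre -/
theorem preimage_le {P : Subgroup E} (hP : ⁅P, P⁆ = P) {H : Subgroup K}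
    (hH : ⁅P.comap π, P.comap π⁆ ≤ H) (hZ : center ↥K ≤ H) : P.comap π ≤ H := by
  have h1 : (⁅P.comap π, P.comap π⁆).map π = P := by
    rw [map_commutator, map_comap_eq_self_of_surjective h.surj, hP]
  intro x hx
  have h2 : π x ∈ (⁅P.comap π, P.comap π⁆).map π := by rw [h1]; exact hx
  obtain ⟨y, hy, hyx⟩ := h2
  have h3 : y⁻¹ * x ∈ π.ker := by
    rw [MonoidHom.mem_ker, map_mul, map_inv, hyx, inv_mul_cancel]
  rw [h.ker] at h3
  have h4 : x = y * (y⁻¹ * x) := by group
  rw [h4]
  exact mul_mem (hH hy) (hZ h3)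

/-- lifts of commuting elements, the centraliser of one of which is perfect, commute -/
theorem lift_comm {r : E} (hr : ⁅centralizer ({r} : Set E), centralizer ({r} : Set E)⁆ = centralizer ({r} : Set E))
    {x y : K} (hy : π y = r) (hx : π x * r = r * π x) : x * y = y * x := by
  have h1 : (centralizer ({r} : Set E)).comap π ≤ centralizer ({y} : Set K) := by
    apply h.preimage_le hr
    · rw [commutator_le]
      intro a ha b hb
      have key : ∀ a ∈ (centralizer ({r} : Set E)).comap π, ∃ z ∈ center ↥K, a * y = y * a * z := by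
        intro a ha
        refine ⟨(y * a)⁻¹ * (a * y), ?_, by group⟩
        rw [← h.ker, MonoidHom.mem_ker, map_mul, map_inv, map_mul, map_mul, hy]
        have := mem_centralizer_singleton_iff.1 (mem_comap.1 ha)
        rw [this, inv_mul_cancel]
      obtain ⟨z, hz, hza⟩ := key a ha
      obtain ⟨w, hw, hwb⟩ := key b hb
      have hz' : ∀ g : K, g * z = z * g := mem_center_iff.1 hz
      have hw' : ∀ g : K, g * w = w * g := mem_center_iff.1 hw
      rw [mem_centralizer_singleton_iff, commutatorElement_def]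
      have e1 : y⁻¹ * a * y = a * z := by
        rw [mul_assoc, hza]; group
      have e2 : y⁻¹ * b * y = b * w := by
        rw [mul_assoc, hwb]; group
      have e3 : y⁻¹ * (a * b * a⁻¹ * b⁻¹) * y = a * b * a⁻¹ * b⁻¹ := by
        calc y⁻¹ * (a * b * a⁻¹ * b⁻¹) * y = (y⁻¹ * a * y) * (y⁻¹ * b * y) * (y⁻¹ * a * y)⁻¹ * (y⁻¹ * b * y)⁻¹ := by
              group
          _ = (a * z) * (b * w) * (a * z)⁻¹ * (b * w)⁻¹ := by rw [e1, e2]
          _ = a * (z * b) * w * z⁻¹ * a⁻¹ * (w⁻¹ * b⁻¹) := by rw [mul_inv_rev, mul_inv_rev]; group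
          _ = a * (b * z) * (w * z⁻¹) * a⁻¹ * (w⁻¹ * b⁻¹) := by rw [← hz' b]; group
          _ = a * b * (z * (w * z⁻¹)) * a⁻¹ * (w⁻¹ * b⁻¹) := by group
          _ = a * b * w * a⁻¹ * (w⁻¹ * b⁻¹) := by rw [← hz' (w * z⁻¹)]; group
          _ = a * b * (w * (a⁻¹ * w⁻¹)) * b⁻¹ := by group
          _ = a * b * a⁻¹ * b⁻¹ := by rw [← hw' (a⁻¹ * w⁻¹)]; group
      have e4 : a * b * a⁻¹ * b⁻¹ * y = y * (y⁻¹ * (a * b * a⁻¹ * b⁻¹) * y) := by group
      rw [e4, e3]
    · intro z hz
      rw [mem_centralizer_singleton_iff]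
      exact (mem_center_iff.1 hz y).symm
  have h2 : x ∈ (centralizer ({r} : Set E)).comap π := mem_comap.2 (mem_centralizer_singleton_iff.2 hx)
  exact mem_centralizer_singleton_iff.1 (h1 h2)

end Cov

/-- **GAMMA.** -/
theorem gamma {K : Subgroup G} {π : ↥K →* E} (h : Cov K π) {R : Set E} (F : Facts E R) {U : Subgroup G}
    (hU : ∀ u ∈ U, u * u = 1) (h4 : Nat.card U = 4) (hUK : U ≤ normalizer (K : Set G))
    (hUC : U ⊓ centralizer (K : Set G) = ⊥)
    (hN : ∀ u ∈ U, u ≠ 1 → ∀ k ∈ K, k * u = u * k → k ∈ normalizer (U : Set G)) : False := by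
  classical
  obtain ⟨α, hα⟩ := h.exists_act
  let A : ∀ u ∈ U, MulAut E := fun u hu => α ⟨u, hUK hu⟩
  have hA : ∀ (u : G) (hu : u ∈ U) (k : K) (k' : K), (k' : G) = u * k * u⁻¹ → A u hu (π k) = π k' := by
    intro u hu k k' hk
    rw [hα]
    congr 1
    exact Subtype.ext hk.symm
  have hinv : ∀ u ∈ U, u⁻¹ = u := fun u hu => inv_eq_of_mul_eq_one_right (hU u hu)
  have hcomm : ∀ u ∈ U, ∀ v ∈ U, u * v = v * u := by
    intro u hu v hv
    have h1 := hinv _ (mul_mem hu hv)
    rw [mul_inv_rev, hinv u hu, hinv v hv] at h1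
    exact h1.symm
  have hAmul : ∀ (u : G) (hu : u ∈ U) (v : G) (hv : v ∈ U), A (u * v) (mul_mem hu hv) = A u hu * A v hv := by
    intro u hu v hv
    show α _ = α _ * α _
    rw [← map_mul]
    rfl
  -- an element of `U` acting on `E` as an element of `K` differs from it by an element of `C(K)`
  have hlift : ∀ (u : G) (hu : u ∈ U) (b : K), A u hu = MulAut.conj (π b) → ∀ k : K,
      u * k * u⁻¹ = b * k * (b : G)⁻¹ := by
    intro u hu b hb k
    have h1 : ∀ k : K, ∃ z : K, z ∈ center ↥K ∧ ((b : G)⁻¹ * u) * k * ((b : G)⁻¹ * u)⁻¹ = k * z := by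
      intro k
      have hmem : u * k * u⁻¹ ∈ K := (mem_normalizer_iff.1 (hUK hu) k).1 k.2
      refine ⟨k⁻¹ * (b⁻¹ * ⟨u * k * u⁻¹, hmem⟩ * b), ?_, ?_⟩
      · rw [← h.ker, MonoidHom.mem_ker, map_mul, map_mul, map_mul, map_inv, map_inv,
          ← hA u hu k ⟨u * k * u⁻¹, hmem⟩ rfl, hb]
        show (π k)⁻¹ * ((π b)⁻¹ * (π b * π k * (π b)⁻¹) * π b) = 1
        group
      · simp only [Subgroup.coe_mul, Subgroup.coe_inv]
        group
    have h2 := h.centralizes h1 k
    have h3 : u * k * u⁻¹ = b * ((b : G)⁻¹ * u * k) * u⁻¹ := by group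
    rw [h3, h2]; group
  have hne : ∀ (u : G) (hu : u ∈ U), u ≠ 1 → A u hu ≠ 1 := by
    intro u hu hu1 h1
    have h2 := hlift u hu 1 (by rw [h1, map_one, map_one])
    have h3 : u ∈ U ⊓ centralizer (K : Set G) := by
      refine ⟨hu, mem_centralizer_iff.2 fun k hk => ?_⟩
      have h4 := h2 ⟨k, hk⟩
      simp only [Subgroup.coe_one, one_mul, inv_one, mul_one] at h4
      exact (mul_inv_eq_iff_eq_mul.1 h4).symm
    rw [hUC] at h3
    exact hu1 (mem_bot.1 h3)
  -- no two elements of `U` act in the same way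
  have hinj : ∀ (u : G) (hu : u ∈ U) (v : G) (hv : v ∈ U), A u hu = A v hv → u = v := by
    intro u hu v hv huv
    by_contra hcon
    refine hne (u * v) (mul_mem hu hv) ?_ ?_
    · intro h1
      apply hcon
      rw [← hinv v hv]
      exact eq_inv_of_mul_eq_one_left h1
    · rw [hAmul u hu v hv, huv, ← hAmul v hv v hv]
      have h1 : (⟨v * v, hUK (mul_mem hv hv)⟩ : normalizer (K : Set G)) = 1 := Subtype.ext (hU v hv)
      show α ⟨v * v, _⟩ = 1
      rw [h1, map_one]
  -- the conjugates of `v` under the centraliser of `u`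
  have hconj : ∀ (u : G), u ∈ U → u ≠ 1 → ∀ v ∈ U, v ≠ 1 → v ≠ u → ∀ k ∈ K, k * u = u * k →
      k * v * k⁻¹ = v ∨ k * v * k⁻¹ = u * v := by
    intro u hu hu1 v hv hv1 hvu k hk hku
    have h1 := (mem_normalizer_iff.1 (hN u hu hu1 k hk hku) v).1 hv
    by_contra hcon
    push Not at hcon
    have hw1 : k * v * k⁻¹ ≠ 1 := by
      intro h2
      apply hv1
      have h3 : v = k⁻¹ * (k * v * k⁻¹) * k := by group
      rw [h3, h2]; group
    have hwu : k * v * k⁻¹ ≠ u := by
      intro h2
      apply hvu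
      have h3 : v = k⁻¹ * (k * v * k⁻¹) * k := by group
      rw [h3, h2, mul_assoc, ← hku]; group
    have hs : ({⟨1, one_mem U⟩, ⟨u, hu⟩, ⟨v, hv⟩, ⟨u * v, mul_mem hu hv⟩, ⟨k * v * k⁻¹, h1⟩} : Finset U).card = 5 := by
      rw [Finset.card_insert_of_notMem, Finset.card_insert_of_notMem, Finset.card_insert_of_notMem,
        Finset.card_insert_of_notMem, Finset.card_singleton]
      · simp only [Finset.mem_singleton, Subtype.mk.injEq]
        exact fun e => hcon.2 e.symm
      · simp only [Finset.mem_insert, Finset.mem_singleton, Subtype.mk.injEq, not_or]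
        exact ⟨fun e => hu1 (by simpa using e.symm), fun e => hcon.1 e.symm⟩
      · simp only [Finset.mem_insert, Finset.mem_singleton, Subtype.mk.injEq, not_or]
        exact ⟨fun e => hvu e.symm, fun e => hv1 (by simpa using e.symm), fun e => hwu e.symm⟩
      · simp only [Finset.mem_insert, Finset.mem_singleton, Subtype.mk.injEq, not_or]
        refine ⟨fun e => hu1 e.symm, fun e => hv1 e.symm, fun e => hvu ?_, fun e => hw1 e.symm⟩
        have h3 : v = u⁻¹ * (u * v) := by group
        rw [h3, ← e, mul_one, hinv u hu]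
    have hfin : Finite U := Nat.finite_of_card_ne_zero (by omega)
    have : Fintype U := Fintype.ofFinite U
    have h5 := Finset.card_le_univ
      ({⟨1, one_mem U⟩, ⟨u, hu⟩, ⟨v, hv⟩, ⟨u * v, mul_mem hu hv⟩, ⟨k * v * k⁻¹, h1⟩} : Finset U)
    rw [hs, ← Nat.card_eq_fintype_card, h4] at h5
    omega
  -- two further elements
  have hother : ∀ u ∈ U, ∃ v ∈ U, v ≠ 1 ∧ v ≠ u := by
    intro u hu
    by_contra hcon
    push Not at hcon
    have hfin : Finite U := Nat.finite_of_card_ne_zero (by omega)
    have : Fintype U := Fintype.ofFinite U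
    have h5 : (Finset.univ : Finset U) ⊆ {⟨1, one_mem U⟩, ⟨u, hu⟩} := by
      rintro ⟨v, hv⟩ -
      rw [Finset.mem_insert, Finset.mem_singleton]
      by_cases h1 : v = 1
      · left; exact Subtype.ext h1
      · right; exact Subtype.ext (hcon v hv h1)
    have h6 := Finset.card_le_card h5
    have h7 : ({⟨1, one_mem U⟩, ⟨u, hu⟩} : Finset U).card ≤ 2 := Finset.card_le_two
    rw [Finset.card_univ, ← Nat.card_eq_fintype_card, h4] at h6
    omega
  -- roots
  have hroot : ∀ (u : G) (hu : u ∈ U) (b : E), b ∈ R → A u hu = MulAut.conj b → u ≠ 1 → False := by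
    intro u hu b hb hub hu1
    obtain ⟨v, hv, hv1, hvu⟩ := hother u hu
    obtain ⟨b', rfl⟩ := h.surj b
    have hl := hlift u hu b' hub
    -- the preimage of the centraliser of `b` centralises `v`
    have hle : (centralizer ({π b'} : Set E)).comap π ≤ (centralizer ({v} : Set G)).subgroupOf K := by
      have hku : ∀ k ∈ (centralizer ({π b'} : Set E)).comap π, (k : G) * u = u * k := by
        intro k hk
        have h1 := h.lift_comm (F.perf _ hb) (x := k) (y := b') rfl
          (mem_centralizer_singleton_iff.1 (mem_comap.1 hk))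
        have h2 : (k : G) * b' = b' * k := congrArg Subtype.val h1
        have h3 := hl k
        have h4 : (b' : G) * k * (b' : G)⁻¹ = k := by rw [← h2]; group
        rw [h4] at h3
        exact (mul_inv_eq_iff_eq_mul.1 h3).symm
      have hkv : ∀ k : K, k ∈ (centralizer ({π b'} : Set E)).comap π →
          (k : G) * v * (k : G)⁻¹ = v ∨ (k : G) * v * (k : G)⁻¹ = u * v :=
        fun k hk => hconj u hu hu1 v hv hv1 hvu (k : G) k.2 (hku k hk)
      -- both act as `1` or as the transvection
      have hact : ∀ k : K, k ∈ (centralizer ({π b'} : Set E)).comap π →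
          ((k : G) * v * (k : G)⁻¹ = v ∧ (k : G) * (u * v) * (k : G)⁻¹ = u * v ∧
            (k : G)⁻¹ * v * (k : G) = v ∧ (k : G)⁻¹ * (u * v) * (k : G) = u * v) ∨
          ((k : G) * v * (k : G)⁻¹ = u * v ∧ (k : G) * (u * v) * (k : G)⁻¹ = v ∧
            (k : G)⁻¹ * v * (k : G) = u * v ∧ (k : G)⁻¹ * (u * v) * (k : G) = v) := by
        intro k hk
        have h1 : (k : G) * (u * v) * (k : G)⁻¹ = u * ((k : G) * v * (k : G)⁻¹) := by
          rw [← mul_assoc, hku k hk]; group
        have h5 : ∀ x y : G, (k : G) * x * (k : G)⁻¹ = y → (k : G)⁻¹ * y * k = x := by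
          rintro x _ rfl; group
        rcases hkv k hk with h2 | h2
        · have h3 : (k : G) * (u * v) * (k : G)⁻¹ = u * v := by rw [h1, h2]
          exact Or.inl ⟨h2, h3, h5 _ _ h2, h5 _ _ h3⟩
        · have h3 : (k : G) * (u * v) * (k : G)⁻¹ = v := by rw [h1, h2, ← mul_assoc, hU u hu, one_mul]
          exact Or.inr ⟨h2, h3, h5 _ _ h3, h5 _ _ h2⟩
      apply h.preimage_le (F.perf _ hb)
      · rw [commutator_le]
        intro a ha c hc
        rw [mem_subgroupOf, mem_centralizer_singleton_iff]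
        have hcom : ((⁅a, c⁆ : K) : G) * v * ((⁅a, c⁆ : K) : G)⁻¹ = v := by
          have e1 : ((⁅a, c⁆ : K) : G) * v * ((⁅a, c⁆ : K) : G)⁻¹ =
              (a : G) * ((c : G) * ((a : G)⁻¹ * ((c : G)⁻¹ * v * c) * a) * (c : G)⁻¹) * (a : G)⁻¹ := by
            rw [commutatorElement_def]
            simp only [Subgroup.coe_mul, Subgroup.coe_inv]
            group
          rw [e1]
          rcases hact a ha with ⟨p1, p2, p3, p4⟩ | ⟨p1, p2, p3, p4⟩ <;>
            rcases hact c hc with ⟨q1, q2, q3, q4⟩ | ⟨q1, q2, q3, q4⟩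
          · rw [q3, p3, q1, p1]
          · rw [q3, p4, q2, p1]
          · rw [q3, p3, q2, p2]
          · rw [q3, p4, q1, p2]
        exact mul_inv_eq_iff_eq_mul.1 hcom
      · intro z hz
        rw [mem_subgroupOf, mem_centralizer_singleton_iff]
        -- `z` commutes with `v`
        have hzc : ∀ k : K, k * z = z * k := mem_center_iff.1 hz
        have h1 : (z : G) * v * (z : G)⁻¹ = v := by
          have hz1 : z ∈ (centralizer ({π b'} : Set E)).comap π := by
            rw [mem_comap, mem_centralizer_singleton_iff, ← map_mul, ← map_mul, hzc b']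
          rcases hkv z hz1 with h2 | h2
          · exact h2
          · exfalso
            -- `u = z v z⁻¹ v⁻¹` centralises `K`
            have h3 : u ∈ U ⊓ centralizer (K : Set G) := by
              refine ⟨hu, mem_centralizer_iff.2 fun k hk => ?_⟩
              have h4 : u = (z : G) * (v * (z : G)⁻¹ * v⁻¹) := by
                have h5 : u = (z : G) * v * (z : G)⁻¹ * v⁻¹ := by rw [h2]; group
                rw [h5]; group
              have h6 : v * (z : G)⁻¹ * v⁻¹ ∈ K := (mem_normalizer_iff.1 (hUK hv) _).1 (inv_mem z.2)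
              have h7 : (⟨v * (z : G)⁻¹ * v⁻¹, h6⟩ : K) ∈ center K := by
                have h8 := (Subgroup.characteristic_iff_map_eq.1 (inferInstance : (center K).Characteristic))
                  (K.normalizerMonoidHom ⟨v, hUK hv⟩)
                rw [← h8]
                exact ⟨z⁻¹, inv_mem hz, rfl⟩
              have h9 := mem_center_iff.1 (mul_mem hz h7) ⟨k, hk⟩
              have h10 := congrArg Subtype.val h9
              simp only [Subgroup.coe_mul] at h10
              rw [h4]
              exact h10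
            rw [hUC] at h3
            exact hu1 (mem_bot.1 h3)
        exact mul_inv_eq_iff_eq_mul.1 h1
    -- `v` fixes the centraliser of `b`
    have hfix : ∀ y, y * π b' = π b' * y → A v hv y = y := by
      intro y hy
      obtain ⟨y', rfl⟩ := h.surj y
      have h1 : y' ∈ (centralizer ({v} : Set G)).subgroupOf K :=
        hle (mem_comap.2 (mem_centralizer_singleton_iff.2 hy))
      rw [mem_subgroupOf, mem_centralizer_singleton_iff] at h1
      apply hA v hv y' y'
      rw [← h1]; group
    rcases F.fixR _ hb _ hfix with h1 | h1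
    · exact hne v hv hv1 h1
    · exact hvu (hinj v hv u hu (by rw [h1, hub]))
  -- an inner element
  obtain ⟨u, hu, hu1, b, hub⟩ : ∃ (u : G) (hu : u ∈ U), u ≠ 1 ∧ ∃ b : E, A u hu = MulAut.conj b := by
    obtain ⟨u, hu, hu1, -⟩ := hother 1 (one_mem U)
    obtain ⟨v, hv, hv1, hvu⟩ := hother u hu
    have hsq : ∀ (u : G) (hu : u ∈ U), A u hu * A u hu = 1 := by
      intro u hu
      rw [← hAmul u hu u hu]
      have h1 : (⟨u * u, hUK (mul_mem hu hu)⟩ : normalizer (K : Set G)) = 1 := Subtype.ext (hU u hu)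
      show α ⟨u * u, _⟩ = 1
      rw [h1, map_one]
    have hcm : A u hu * A v hv = A v hv * A u hu := by
      show α _ * α _ = α _ * α _
      rw [← map_mul, ← map_mul]
      exact congrArg α (Subtype.ext (hcomm u hu v hv))
    rcases F.out _ _ (hsq u hu) (hsq v hv) hcm with ⟨x, hx⟩ | ⟨x, hx⟩ | ⟨x, hx⟩
    · exact ⟨u, hu, hu1, x, hx⟩
    · exact ⟨v, hv, hv1, x, hx⟩
    · refine ⟨u * v, mul_mem hu hv, ?_, x, ?_⟩
      · intro h1
        apply hvu
        rw [← hinv u hu]
        exact (inv_eq_of_mul_eq_one_right h1).symm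
      · rw [hAmul u hu v hv, hx]
  obtain ⟨v, hv, hv1, hvu⟩ := hother u hu
  by_cases hbR : b ∈ R
  · exact hroot u hu b hbR hub hu1
  have hconj1 : ∀ x : E, MulAut.conj x = 1 → x = 1 := by
    intro x hx
    have h1 : x ∈ center E := by
      rw [mem_center_iff]
      intro g
      have h2 : x * g * x⁻¹ = g := congrArg (fun φ : MulAut E => φ g) hx
      exact (mul_inv_eq_iff_eq_mul.1 h2).symm
    rw [F.cen] at h1
    exact mem_bot.1 h1
  have hbb : b * b = 1 := by
    apply hconj1
    rw [map_mul, ← hub, ← hAmul u hu u hu]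
    have h1 : (⟨u * u, hUK (mul_mem hu hu)⟩ : normalizer (K : Set G)) = 1 := Subtype.ext (hU u hu)
    show α ⟨u * u, _⟩ = 1
    rw [h1, map_one]
  have hb1 : b ≠ 1 := by
    rintro rfl
    exact hne u hu hu1 (by rw [hub, map_one])
  obtain ⟨b', rfl⟩ := h.surj b
  have hl := hlift u hu b' hub
  have hvb : A v hv (π b') = π b' := by
    have e1 : MulAut.conj (A v hv (π b')) = MulAut.conj (π b') := by
      have e2 : A v hv * A u hu = A u hu * A v hv := by
        show α _ * α _ = α _ * α _
        rw [← map_mul, ← map_mul]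
        exact congrArg α (Subtype.ext (hcomm v hv u hu))
      rw [hub] at e2
      ext g
      obtain ⟨g', rfl⟩ := (A v hv).surjective g
      have e3 := congrArg (fun φ : MulAut E => φ g') e2
      show A v hv (π b') * A v hv g' * (A v hv (π b'))⁻¹ = π b' * A v hv g' * (π b')⁻¹
      rw [← map_inv, ← map_mul, ← map_mul]
      exact e3
    have e2 : A v hv (π b') * (π b')⁻¹ = 1 := by
      apply hconj1
      rw [map_mul, map_inv, e1, mul_inv_cancel]
    exact mul_inv_eq_one.1 e2
  obtain ⟨x, hx, hx'⟩ := F.fix _ hbb hb1 hbR (A v hv) hvb (by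
    intro y hy hyb hybR
    obtain ⟨y', rfl⟩ := h.surj y
    -- the lift commutes with `u`
    have h1 := h.lift_comm (F.perf _ hy) (x := b') (y := y') rfl hyb.symm
    have h2 : (b' : G) * y' = y' * b' := congrArg Subtype.val h1
    have h3 := hl y'
    have h4 : (b' : G) * y' * (b' : G)⁻¹ = y' := by rw [h2]; group
    rw [h4] at h3
    have h5 : (y' : G) * u = u * y' := (mul_inv_eq_iff_eq_mul.1 h3).symm
    rcases hconj u hu hu1 v hv hv1 hvu y' y'.2 h5 with h6 | h6
    · apply hA v hv y' y'
      have h7 := mul_inv_eq_iff_eq_mul.1 h6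
      rw [← h7]; group
    · exfalso
      apply hybR
      -- `v y' v⁻¹ = u⁻¹ y'`
      have h7 : v * y' * v⁻¹ = u * y' := by
        have e1 : (y' : G) * v = u * v * y' := mul_inv_eq_iff_eq_mul.1 h6
        have e2 : v * y' = u⁻¹ * (y' * v) := by rw [e1]; group
        rw [e2, hinv u hu]; group
      have h8 : v * y' * v⁻¹ ∈ K := (mem_normalizer_iff.1 (hUK hv) _).1 y'.2
      have h9 : u ∈ K := by
        have e1 : u = v * y' * v⁻¹ * (y' : G)⁻¹ := by rw [h7]; group
        rw [e1]
        exact mul_mem h8 (inv_mem y'.2)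
      have h10 : π ⟨u, h9⟩ = π b' := by
        have e1 : MulAut.conj (π ⟨u, h9⟩) = MulAut.conj (π b') := by
          rw [← hub]
          ext g
          obtain ⟨k, rfl⟩ := h.surj g
          rw [hA u hu k (⟨u, h9⟩ * k * ⟨u, h9⟩⁻¹) rfl, map_mul, map_mul, map_inv]
          rfl
        have e2 : π ⟨u, h9⟩ * (π b')⁻¹ = 1 := by
          apply hconj1
          rw [map_mul, map_inv, e1, mul_inv_cancel]
        exact mul_inv_eq_one.1 e2
      have h11 : A v hv (π y') = π b' * π y' := by
        rw [hA v hv y' (⟨u, h9⟩ * y') (by rw [h7]; rfl), map_mul, h10]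
      have h12 := F.inv (A v hv) _ hy
      rw [h11] at h12
      rwa [hyb])
  rcases hx' with rfl | rfl | hxR | hxR
  · exact hne v hv hv1 (by rw [hx, map_one])
  · exact hvu (hinj v hv u hu (by rw [hx, hub]))
  · exact hroot v hv x hxR hx hv1
  · refine hroot (u * v) (mul_mem hu hv) _ hxR ?_ ?_
    · rw [hAmul u hu v hv, hub, hx, map_mul]
    · intro h1
      apply hvu
      rw [← hinv u hu]
      exact (inv_eq_of_mul_eq_one_right h1).symm

end Cfsg.Agent.OddHalf.D9.RankTwo.Gamma
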