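import Cfsg.Agent.OddHalf.D9.RankTwo.LamOval
import Cfsg.Agent.OddHalf.Table.OutUSix
import Cfsg.Agent.OddHalf.D9.Cut

/-!
# Innerness for `2².U₆(2)` (helper103)

An automorphism of the perfect central extension `K` of `PSU 6 F 2`, `|F| = 4`, by a centre of order four, which is
trivial on the centre, is inner: it maps the normalised lifts of the transvections to such lifts, hence preserves the
products over the hyperovals, which are different for the three classes.
-/

set_option autoImplicit false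
set_option linter.unusedSectionVars false

namespace Cfsg.Agent.OddHalf.D9.RankTwo.InnU

open Cfsg Cfsg.Agent.LieClassical.HermBasic Cfsg.Agent.ClassicalGeometry.UnitTransv
open Cfsg.Agent.SporadicStructure.UnitTwo
open Cfsg.Agent.R01.PSUSix Cfsg.Agent.R01.InvForm
open Cfsg.Agent.ClassicalGeometry.UnitAutBasic (tau pr pr_surjective c0)
open Cfsg.Agent.ClassicalGeometry.PSUAutCount (gm semiConj toAut herm_gm act_semiConj herm_semi gm_mul gm_mul_inv
  gm_inv_mulVec gm_mulVec_inv toAut_tau toAut_pr)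
open Cfsg.Agent.Schreier.PSU (f₁ f₂ toAut_eq f₁_eq_conj)
open Cfsg.Agent.OddHalf.D9.RankTwo.LamK Cfsg.Agent.OddHalf.D9.RankTwo.LamOval
open Subgroup Matrix

universe u

/-! ### Generalities -/

section General

variable {K : Type u} [Group K]

/-- the automorphism induced on the central quotient -/
theorem exists_bar {E : Type*} [Group E] {π : K →* E} (hs : Function.Surjective π) (hk : π.ker = center K)
    (φ : MulAut K) : ∃ β : MulAut E, ∀ k, β (π k) = π (φ k) := by
  have hchar : (π.ker).map φ.toMonoidHom = π.ker := by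
    rw [hk]
    exact (Subgroup.characteristic_iff_map_eq.1 inferInstance) φ
  let e : K ⧸ π.ker ≃* E := QuotientGroup.quotientKerEquivOfSurjective π hs
  have he : ∀ k : K, e (QuotientGroup.mk k) = π k := fun k => rfl
  let c : K ⧸ π.ker ≃* K ⧸ π.ker := QuotientGroup.congr π.ker π.ker φ hchar
  refine ⟨(e.symm.trans c).trans e, fun k => ?_⟩
  show e (c (e.symm (π k))) = π (φ k)
  rw [← he k, e.symm_apply_apply]
  rfl

/-- an automorphism of a perfect group inducing an inner automorphism of the central quotient is inner -/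
theorem inner_of_bar (hperf : commutator K = ⊤) {E : Type*} [Group E] {π : K →* E}
    (hs : Function.Surjective π) (hk : π.ker = center K) {φ : MulAut K} {x : E}
    (h : ∀ k, π (φ k) = x * π k * x⁻¹) : ∃ k, ∀ y, φ y = k * y * k⁻¹ := by
  obtain ⟨k, rfl⟩ := hs x
  refine ⟨k, ?_⟩
  have hz : ∀ y, y⁻¹ * (k⁻¹ * φ y * k) ∈ center K := by
    intro y
    rw [← hk, MonoidHom.mem_ker]
    simp only [map_mul, map_inv, h]
    group
  let f : K →* center K :=
    { toFun := fun y => ⟨y⁻¹ * (k⁻¹ * φ y * k), hz y⟩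
      map_one' := Subtype.ext (by show (1 : K)⁻¹ * (k⁻¹ * φ 1 * k) = 1; rw [map_one]; group)
      map_mul' := by
        intro a b
        apply Subtype.ext
        show (a * b)⁻¹ * (k⁻¹ * φ (a * b) * k) = a⁻¹ * (k⁻¹ * φ a * k) * (b⁻¹ * (k⁻¹ * φ b * k))
        rw [map_mul]
        have h1 := mem_center_iff.1 (hz a) b⁻¹
        calc (a * b)⁻¹ * (k⁻¹ * (φ a * φ b) * k)
            = b⁻¹ * (a⁻¹ * (k⁻¹ * φ a * k)) * (k⁻¹ * φ b * k) := by group
          _ = (a⁻¹ * (k⁻¹ * φ a * k)) * b⁻¹ * (k⁻¹ * φ b * k) := by rw [h1]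
          _ = _ := by group }
  have hf : (⊤ : Subgroup K) ≤ f.ker := by
    rw [← hperf, commutator_def, commutator_le]
    intro a _ b _
    rw [MonoidHom.mem_ker, map_commutatorElement, commutatorElement_eq_one_iff_mul_comm]
    apply Subtype.ext
    exact (mem_center_iff.1 (f b).2 (f a : K))
  intro y
  have h1 : f y = 1 := MonoidHom.mem_ker.1 (hf (mem_top y))
  have h2 : y⁻¹ * (k⁻¹ * φ y * k) = 1 := congrArg Subtype.val h1
  have h3 := inv_mul_eq_one.1 h2
  calc φ y = k * (k⁻¹ * φ y * k) * k⁻¹ := by group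
    _ = k * y * k⁻¹ := by rw [← h3]

end General

variable {F : Type*} [Field F] [Fintype F] {hF : Fintype.card F = 2 ^ 2}

/-! ### The semilinear map -/

/-- the semi-isometry -/
def sl (A : GU 6 F 2) (ρ : F ≃+* F) (x : Fin 6 → F) : Fin 6 → F := gm A *ᵥ fun i => ρ (x i)

theorem sl_add (A : GU 6 F 2) (ρ : F ≃+* F) (x y : Fin 6 → F) : sl A ρ (x + y) = sl A ρ x + sl A ρ y := by
  rw [sl, sl, sl, ← mulVec_add]
  congr 1
  funext i
  simp

theorem sl_smul (A : GU 6 F 2) (ρ : F ≃+* F) (c : F) (x : Fin 6 → F) : sl A ρ (c • x) = ρ c • sl A ρ x := by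
  rw [sl, sl, ← mulVec_smul]
  congr 1
  funext i
  simp

theorem sl_zero (A : GU 6 F 2) (ρ : F ≃+* F) : sl A ρ 0 = 0 := by
  have := sl_smul A ρ 0 0
  rwa [zero_smul, map_zero, zero_smul] at this

theorem herm_sl (A : GU 6 F 2) (ρ : F ≃+* F) (x y : Fin 6 → F) :
    hermForm 6 F 2 (sl A ρ x) (sl A ρ y) = ρ (hermForm 6 F 2 x y) := herm_semi A ρ x y

theorem act_sl (A : GU 6 F 2) (ρ : F ≃+* F) (g : SU 6 F 2) (x : Fin 6 → F) :
    act (semiConj A ρ g) (sl A ρ x) = sl A ρ (act g x) := act_semiConj A ρ g x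

theorem sl_eq_zero {A : GU 6 F 2} {ρ : F ≃+* F} {x : Fin 6 → F} (h : sl A ρ x = 0) : x = 0 := by
  have h1 : (fun i => ρ (x i)) = 0 := by
    have := gm_inv_mulVec A (fun i => ρ (x i))
    rw [← this]
    show gm A⁻¹ *ᵥ (sl A ρ x) = 0
    rw [h, mulVec_zero]
  funext i
  have := congrFun h1 i
  simpa using this

theorem toAut_tau' (hF : Fintype.card F = 2 ^ 2) (A : GU 6 F 2) (ρ : F ≃+* F) {v : Fin 6 → F}
    (hv : hermForm 6 F 2 v v = 0) : toAut A ρ (tau hF v) = tau hF (sl A ρ v) := by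
  have h1 := toAut_tau hF A ρ (r := 1) (by rw [c0_eq, map_one]; ring) hv
  rwa [one_smul] at h1

theorem fr3_sl {A : GU 6 F 2} {ρ : F ≃+* F} {u v w : Fin 6 → F} (h : Fr3 u v w) :
    Fr3 (sl A ρ u) (sl A ρ v) (sl A ρ w) := by
  refine ⟨by rw [herm_sl, h.uu, map_zero], by rw [herm_sl, h.vv, map_zero], by rw [herm_sl, h.ww, map_zero],
    by rw [herm_sl, h.uv, map_zero], by rw [herm_sl, h.uw, map_zero], by rw [herm_sl, h.vw, map_zero], ?_⟩
  intro a b c habc
  have h1 : sl A ρ (ρ.symm a • u + ρ.symm b • v + ρ.symm c • w) = 0 := by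
    rw [sl_add, sl_add, sl_smul, sl_smul, sl_smul, ρ.apply_symm_apply, ρ.apply_symm_apply,
      ρ.apply_symm_apply, habc]
  have h2 := h.ind _ _ _ (sl_eq_zero h1)
  simpa using h2

/-! ### The action on the lifts -/

variable {K : Type u} [Group K] {π : K →* PSU 6 F 2} {lam : (Fin 6 → F) → K}

/-- automorphisms permute the normalised lifts -/
theorem map_lam (S : Sys hF π lam) (hp : IsPGroup 2 π.ker) {φ : MulAut K}
    {A : GU 6 F 2} {ρ : F ≃+* F} (hA : ∀ k, π (φ k) = toAut A ρ (π k)) {v : Fin 6 → F}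
    (hv : hermForm 6 F 2 v v = 0) : φ (lam v) = lam (sl A ρ v) := by
  have hsv : ∀ v, hermForm 6 F 2 v v = 0 → hermForm 6 F 2 (sl A ρ v) (sl A ρ v) = 0 := fun v hv => by
    rw [herm_sl, hv, map_zero]
  -- the difference
  have hker : ∀ v, hermForm 6 F 2 v v = 0 → π ((lam (sl A ρ v))⁻¹ * φ (lam v)) = 1 := by
    intro v hv
    rw [map_mul, map_inv, hA, S.pi v hv, S.pi _ (hsv v hv), toAut_tau' hF A ρ hv, inv_mul_cancel]
  have hconj : ∀ (g : SU 6 F 2) (v : Fin 6 → F), hermForm 6 F 2 v v = 0 →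
      (lam (sl A ρ (act g v)))⁻¹ * φ (lam (act g v)) = (lam (sl A ρ v))⁻¹ * φ (lam v) := by
    intro g v hv
    obtain ⟨k, hk⟩ := S.surj (pr 6 F 2 g)
    have h1 : π (φ k) = pr 6 F 2 (semiConj A ρ g) := by rw [hA, hk, toAut_pr]
    have h2 := S.conj (φ k) (semiConj A ρ g) (sl A ρ v) (hsv v hv) h1
    rw [act_sl] at h2
    have h3 := S.conj k g v hv hk
    rw [← h2, ← h3, map_mul, map_mul, map_inv]
    have h4 := S.cen _ (hker v hv) (φ k)
    calc (φ k * lam (sl A ρ v) * (φ k)⁻¹)⁻¹ * (φ k * φ (lam v) * (φ k)⁻¹)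
        = φ k * ((lam (sl A ρ v))⁻¹ * φ (lam v)) * (φ k)⁻¹ := by group
      _ = (lam (sl A ρ v))⁻¹ * φ (lam v) := by rw [h4, mul_inv_cancel_right]
  have hsmul : ∀ (c : F) (v : Fin 6 → F), c ≠ 0 → hermForm 6 F 2 v v = 0 →
      (lam (sl A ρ (c • v)))⁻¹ * φ (lam (c • v)) = (lam (sl A ρ v))⁻¹ * φ (lam v) := by
    intro c v hc hv
    rw [S.smul c v hc hv, sl_smul, S.smul (ρ c) (sl A ρ v) ((map_ne_zero ρ).2 hc) (hsv v hv)]
  obtain ⟨ω, hω⟩ := exists_omega hF
  have hρω : (ρ ω) ^ 2 + ρ ω + 1 = 0 := by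
    have := congrArg ρ hω
    simpa using this
  obtain ⟨a, b, ha0, hb0, ha, hb, hab, hne⟩ := exists_line hF
  set ζ := (lam (sl A ρ a))⁻¹ * φ (lam a) with hζ
  have hζ1 : π ζ = 1 := hker a ha
  have hcst : ∀ v : Fin 6 → F, v ≠ 0 → hermForm 6 F 2 v v = 0 → φ (lam v) = lam (sl A ρ v) * ζ := by
    intro v h0 hv
    obtain ⟨g, c, hc, hg⟩ := exists_map hF a v ha0 h0 ha hv
    have h1 := hconj g a ha
    rw [hg, hsmul c v hc hv] at h1
    rw [hζ, ← h1, mul_inv_cancel_left]
  -- the line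
  have hind : ∀ x y : F, x • a + y • b = 0 → x = 0 ∧ y = 0 := by
    intro x y hxy
    have hy : y = 0 := by
      by_contra hy
      apply hne
      refine ⟨-(y⁻¹ * x), ?_⟩
      have : y • b = -(x • a) := by
        rw [eq_neg_iff_add_eq_zero, add_comm]; exact hxy
      rw [neg_smul, mul_smul, ← smul_neg, ← this, smul_smul, inv_mul_cancel₀ hy, one_smul]
    subst hy
    rw [zero_smul, add_zero] at hxy
    exact ⟨(smul_eq_zero.1 hxy).resolve_right ha0, rfl⟩
  have hind' : ∀ x y : F, x • sl A ρ a + y • sl A ρ b = 0 → x = 0 ∧ y = 0 := by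
    intro x y hxy
    have h1 : sl A ρ (ρ.symm x • a + ρ.symm y • b) = 0 := by
      rw [sl_add, sl_smul, sl_smul, ρ.apply_symm_apply, ρ.apply_symm_apply, hxy]
    have h2 := hind _ _ (sl_eq_zero h1)
    simpa using h2
  have hpt : ∀ c : F, c • a + b ≠ 0 ∧ hermForm 6 F 2 (c • a + b) (c • a + b) = 0 := by
    intro c
    refine ⟨fun h => hne ⟨-c, ?_⟩, ?_⟩
    · rw [neg_smul]; exact eq_neg_of_add_eq_zero_right h
    · rw [herm_add_left, herm_add_right hF, herm_add_right hF, herm_smul_left, herm_smul_left,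
        herm_smul_right, herm_smul_right, ha, hb, hab, herm_eq_zero_swap hF hab]
      ring
  have l1 := S.line a b ω ha hb hab hind hω
  have l2 := S.line (sl A ρ a) (sl A ρ b) (ρ ω) (hsv a ha) (hsv b hb) (by rw [herm_sl, hab, map_zero]) hind' hρω
  have p1 := hpt 1
  rw [one_smul] at p1
  have l3 := congrArg φ l1
  rw [map_mul, map_mul, map_mul, map_mul, map_one, hcst a ha0 ha, hcst b hb0 hb, hcst _ p1.1 p1.2,
    hcst _ (hpt _).1 (hpt _).2, hcst _ (hpt _).1 (hpt _).2, sl_add, sl_add, sl_add, sl_smul, sl_smul,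
    map_pow] at l3
  have hζc := S.cen ζ hζ1
  have h5 : ζ ^ 5 = 1 := by
    have h6 : ∀ n : ℕ, ∀ x y : K, x * ζ ^ n * (y * ζ) = x * y * ζ ^ (n + 1) := fun n x y => by
      have h7 : y * ζ ^ n = ζ ^ n * y := by
        induction n with
        | zero => simp
        | succ n ih => rw [pow_succ, ← mul_assoc, ih, mul_assoc, hζc, ← mul_assoc]
      rw [mul_assoc, ← mul_assoc (ζ ^ n), ← h7, pow_succ]; group
    have h7 := h6 1
    rw [pow_one] at h7
    rw [h7, h6 2, h6 3, h6 4, l2, one_mul] at l3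
    exact l3
  have h8 : (⟨ζ, hζ1⟩ : π.ker) = 1 :=
    eq_one_of_pow hp (n := 5) (by decide) (Subtype.ext (by rw [Subgroup.coe_pow]; exact h5))
  have h9 : ζ = 1 := congrArg Subtype.val h8
  by_cases h0 : v = 0
  · rw [h0, sl_zero, S.zero, map_one]
  · rw [hcst v h0 hv, h9, mul_one]

/-- the product over the hyperoval does not depend on the choice of `ω` -/
theorem ov_omega (S : Sys hF π lam) {u v w : Fin 6 → F} (h : Fr3 u v w) {ω ω' : F} (hω : ω ^ 2 + ω + 1 = 0)
    (hω' : ω' ^ 2 + ω' + 1 = 0) (t : F) : ov lam ω' t u v w = ov lam ω t u v w := by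
  have h3 := omega_cubed hω
  have hcase : ω' = ω ∨ ω' = ω ^ 2 := by
    have : (ω' - ω) * (ω' - ω ^ 2) = 0 := by linear_combination hω' - ω' * hω + h3
    rcases mul_eq_zero.1 this with h5 | h5
    · left; linear_combination h5
    · right; linear_combination h5
  rcases hcase with rfl | rfl
  · rfl
  · have h4 : (ω ^ 2) ^ 2 = ω := by linear_combination ω * h3
    rw [ov, ov, h4]
    have i2 : hermForm 6 F 2 (u + ω • v + (t * ω ^ 2) • w) (u + ω • v + (t * ω ^ 2) • w) = 0 := by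
      simpa using iso3 hF h 1 ω (t * ω ^ 2) 1 ω (t * ω ^ 2)
    have i3 : hermForm 6 F 2 (u + ω ^ 2 • v + (t * ω) • w) (u + ω ^ 2 • v + (t * ω) • w) = 0 := by
      simpa using iso3 hF h 1 (ω ^ 2) (t * ω) 1 (ω ^ 2) (t * ω)
    have i4 : hermForm 6 F 2 (u + ω • v + (t * ω ^ 2) • w) (u + ω ^ 2 • v + (t * ω) • w) = 0 := by
      simpa using iso3 hF h 1 ω (t * ω ^ 2) 1 (ω ^ 2) (t * ω)
    rw [mul_assoc _ (lam (u + ω ^ 2 • v + (t * ω) • w)), comm_lam S i3 i2 i4, ← mul_assoc]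

/-- the image of a hyperoval product -/
theorem map_ov (S : Sys hF π lam) (hp : IsPGroup 2 π.ker) {φ : MulAut K} (hφ : ∀ z, π z = 1 → φ z = z)
    {A : GU 6 F 2} {ρ : F ≃+* F} (hA : ∀ k, π (φ k) = toAut A ρ (π k)) {u v w : Fin 6 → F} (h : Fr3 u v w)
    {ω : F} (hω : ω ^ 2 + ω + 1 = 0) {t : F} (ht : t ^ 3 = 1) :
    ov lam ω t u v w = ov lam ω (ρ t) (sl A ρ u) (sl A ρ v) (sl A ρ w) := by
  have i1 : hermForm 6 F 2 (u + v + t • w) (u + v + t • w) = 0 := by
    simpa using iso3 hF h 1 1 t 1 1 t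
  have i2 : hermForm 6 F 2 (u + ω • v + (t * ω ^ 2) • w) (u + ω • v + (t * ω ^ 2) • w) = 0 := by
    simpa using iso3 hF h 1 ω (t * ω ^ 2) 1 ω (t * ω ^ 2)
  have i3 : hermForm 6 F 2 (u + ω ^ 2 • v + (t * ω) • w) (u + ω ^ 2 • v + (t * ω) • w) = 0 := by
    simpa using iso3 hF h 1 (ω ^ 2) (t * ω) 1 (ω ^ 2) (t * ω)
  have hρω : (ρ ω) ^ 2 + ρ ω + 1 = 0 := by
    have := congrArg ρ hω
    simpa using this
  have m : ∀ {x : Fin 6 → F}, hermForm 6 F 2 x x = 0 → φ (lam x) = lam (sl A ρ x) := fun hx =>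
    map_lam S hp hA hx
  have h1 := hφ _ (pi_ov S h hω ht)
  rw [ov, map_mul, map_mul, map_mul, map_mul, map_mul, m h.uu, m h.vv, m h.ww, m i1, m i2, m i3] at h1
  simp only [sl_add, sl_smul, map_mul, map_pow] at h1
  rw [← ov_omega S (fr3_sl h) hω hρω (ρ t)]
  exact h1.symm

/-! ### A unitary matrix fixing a maximal totally isotropic subspace pointwise -/

theorem det_eq_one (hF : Fintype.card F = 2 ^ 2) {M : Matrix (Fin 6) (Fin 6) F}
    (hM : ∀ x y, hermForm 6 F 2 (M *ᵥ x) (M *ᵥ y) = hermForm 6 F 2 x y) {u v w : Fin 6 → F} (h : Fr3 u v w)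
    (hu : M *ᵥ u = u) (hv : M *ᵥ v = v) (hw : M *ᵥ w = w) : M.det = 1 := by
  have h2 := two_eq_zero hF
  have hMM : M * M = 1 := by
    apply Matrix.ext_of_mulVec_single
    intro i
    set x : Fin 6 → F := Pi.single i 1
    rw [one_mulVec, ← mulVec_mulVec]
    have hfix : ∀ y, M *ᵥ y = y → hermForm 6 F 2 (M *ᵥ x - x) y = 0 := by
      intro y hy
      have h5 := hM x y
      rw [hy] at h5
      rw [sub_eq_add_neg, herm_add_left, h5, ← neg_one_smul F x, herm_smul_left]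
      ring
    obtain ⟨a, b, c, habc⟩ := mem_span_of_perp hF h (hfix u hu) (hfix v hv) (hfix w hw)
    have h5 : M *ᵥ (M *ᵥ x - x) = M *ᵥ x - x := by
      rw [habc, mulVec_add, mulVec_add, mulVec_smul, mulVec_smul, mulVec_smul, hu, hv, hw]
    rw [mulVec_sub] at h5
    have h6 : M *ᵥ (M *ᵥ x) = M *ᵥ x - x + M *ᵥ x := by rw [← h5]; abel
    rw [h6]
    funext j
    simp only [Pi.add_apply, Pi.sub_apply]
    linear_combination ((M *ᵥ x) j - x j) * h2
  have h3 : M.det * M.det = 1 := by rw [← det_mul, hMM, det_one]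
  have h4 : (M.det - 1) * (M.det - 1) = 0 := by linear_combination h3 - (M.det - 1) * h2
  have h5 := mul_self_eq_zero.1 h4
  linear_combination h5

/-- a ring automorphism fixing `ω` -/
theorem ringAut_eq_one (hF : Fintype.card F = 2 ^ 2) {ω : F} (hω : ω ^ 2 + ω + 1 = 0) {ρ : F ≃+* F}
    (h : ρ ω = ω) : ρ = 1 := by
  ext x
  show ρ x = x
  by_cases h0 : x = 0
  · rw [h0, map_zero]
  · rcases mu_cases hω (pow_three hF h0) with rfl | rfl | rfl
    · exact map_one ρ
    · exact h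
    · rw [map_pow, h]

/-- **Innerness**, over a homomorphism. -/
theorem inner_of (hF : Fintype.card F = 2 ^ 2) [Finite K] (hperf : commutator K = ⊤)
    (hs : Function.Surjective π) (hk : π.ker = center K) (hp : IsPGroup 2 (center K))
    (h4 : 2 < Nat.card (center K)) {φ : MulAut K} (hφ : ∀ z ∈ center K, φ z = z) :
    ∃ k, ∀ y, φ y = k * y * k⁻¹ := by
  have hcen : ∀ z, π z = 1 → ∀ c : K, c * z = z * c := fun z hz =>
    mem_center_iff.1 (by rw [← hk]; exact hz)
  have hφ' : ∀ z, π z = 1 → φ z = z := fun z hz => hφ z (by rw [← hk]; exact hz)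
  have hp' : IsPGroup 2 π.ker := by rw [hk]; exact hp
  have h4' : 2 < Nat.card π.ker := by rw [hk]; exact h4
  obtain ⟨lam, S⟩ := exists_lamK hF hs hcen hp'
  obtain ⟨β, hβ⟩ := exists_bar hs hk φ
  obtain ⟨A, ρ, hAρ⟩ := ClassicalGeometry.PSUAutMain.exists_toAut hF (by norm_num) (by norm_num) β
  have hA : ∀ k, π (φ k) = toAut A ρ (π k) := fun k => by rw [← hβ, hAρ]
  obtain ⟨ω, hω⟩ := exists_omega hF
  have h3 := omega_cubed hω
  have h := fr3_std (F := F) hF
  have h' := fr3_sl (A := A) (ρ := ρ) h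
  obtain ⟨g, a, b, c, ha, hb, hc, hgu, hgv, hgw⟩ := trans_frames_SU hF h' h
  have key : ∀ t : F, t ^ 3 = 1 → t = ρ t * (a * b * c) := by
    intro t ht
    have hρt : ρ t ^ 3 = 1 := by rw [← map_pow, ht, map_one]
    have habc : (a * b * c) ^ 3 = 1 := by
      have e1 := pow_three hF ha
      have e2 := pow_three hF hb
      have e3 := pow_three hF hc
      linear_combination b ^ 3 * c ^ 3 * e1 + c ^ 3 * e2 + e3
    apply ov_injective S hperf hp' h4' h hω ht
    · rw [mul_pow, hρt, habc, one_mul]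
    · obtain ⟨k, hkg⟩ := S.surj (pr 6 F 2 g)
      have h5 := conj_ov S h' ω (ρ t) hkg
      rw [hgu, hgv, hgw, ov_smul S h hω ha hb hc, S.cen _ (pi_ov S h' hω hρt), mul_inv_cancel_right] at h5
      rw [map_ov S hp' hφ' hA h hω ht, h5]
  have habc : a * b * c = 1 := by
    have := key 1 (one_pow 3)
    rw [map_one, one_mul] at this
    exact this.symm
  have hρ1 : ρ = 1 := by
    apply ringAut_eq_one hF hω
    have := key ω h3
    rw [habc, mul_one] at this
    exact this.symm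
  subst hρ1
  -- the diagonal element
  have ha3 := pow_three hF ha
  have hb3 := pow_three hF hb
  have hc3 := pow_three hF hc
  have hd3 : ∀ i, (![a ^ 2, a ^ 2, b ^ 2, b ^ 2, c ^ 2, c ^ 2] : Fin 6 → F) i ^ 3 = 1 := by
    have e : ∀ x : F, x ^ 3 = 1 → (x ^ 2) ^ 3 = 1 := fun x hx => by
      rw [← pow_mul, mul_comm, pow_mul, hx, one_pow]
    intro i
    fin_cases i
    exacts [e a ha3, e a ha3, e b hb3, e b hb3, e c hc3, e c hc3]
  let D : SU 6 F 2 := mk (Matrix.diagonal ![a ^ 2, a ^ 2, b ^ 2, b ^ 2, c ^ 2, c ^ 2])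
    (by
      rw [Matrix.det_diagonal]
      simp [Fin.prod_univ_succ]
      have : (a * b * c) ^ 4 = 1 := by rw [habc, one_pow]
      linear_combination this)
    (by
      intro x y
      rw [herm_def, herm_def]
      apply Finset.sum_congr rfl
      intro i _
      rw [Matrix.mulVec_diagonal, Matrix.mulVec_diagonal]
      linear_combination (x i * y i ^ 2) * hd3 i)
  have hDu : act D (a • (![1, 1, 0, 0, 0, 0] : Fin 6 → F)) = ![1, 1, 0, 0, 0, 0] := by
    rw [act_mk]
    funext i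
    fin_cases i <;> simp [Matrix.mulVec_diagonal] <;> linear_combination ha3
  have hDv : act D (b • (![0, 0, 1, 1, 0, 0] : Fin 6 → F)) = ![0, 0, 1, 1, 0, 0] := by
    rw [act_mk]
    funext i
    fin_cases i <;> simp [Matrix.mulVec_diagonal] <;> linear_combination hb3
  have hDw : act D (c • (![0, 0, 0, 0, 1, 1] : Fin 6 → F)) = ![0, 0, 0, 0, 1, 1] := by
    rw [act_mk]
    funext i
    fin_cases i <;> simp [Matrix.mulVec_diagonal] <;> linear_combination hc3
  -- the element of `GU`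
  obtain ⟨G, hG⟩ := Cfsg.Agent.OddHalf.Table.OutUSix.exists_gm (D * g)
  have hgm : ∀ x, gm (G * A) *ᵥ x = act D (act g (sl A 1 x)) := by
    intro x
    rw [gm_mul, ← mulVec_mulVec, hG, ← act_mul]
    rfl
  have hdet : (gm (G * A)).det = 1 :=
    det_eq_one hF (fun x y => herm_gm _ x y) h (by rw [hgm, hgu, hDu]) (by rw [hgm, hgv, hDv])
      (by rw [hgm, hgw, hDw])
  let B : SU 6 F 2 := Cfsg.Agent.LieClassical.HermSiegel.mkSU (gm (G * A)) hdet (fun x y => herm_gm _ x y)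
  have hB : f₁ (G * A) = MulAut.conj (pr 6 F 2 B) := f₁_eq_conj (G * A) B rfl
  have hG1 : f₁ G = MulAut.conj (pr 6 F 2 (D * g)) := f₁_eq_conj G (D * g) hG
  have hA1 : (toAut A 1 : MulAut (PSU 6 F 2)) = MulAut.conj ((pr 6 F 2 (D * g))⁻¹ * pr 6 F 2 B) := by
    rw [toAut_eq, map_one, mul_one, map_mul, map_inv, ← hG1, ← hB, map_mul, inv_mul_cancel_left]
  refine inner_of_bar hperf hs hk (x := (pr 6 F 2 (D * g))⁻¹ * pr 6 F 2 B) fun k => ?_
  rw [hA, hA1, MulAut.conj_apply]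

/-- **Innerness for `2².U₆(2)`.** -/
theorem inner {K : Type u} [Group K] [Finite K] (hp : commutator K = ⊤) (h4 : Nat.card (center K) = 4)
    (hX : Cut.XU62 (K ⧸ center K)) (α : MulAut K) (hα : ∀ z ∈ center K, α z = z) :
    ∃ k, ∀ x, α x = k * x * k⁻¹ := by
  obtain ⟨F, iF, iF', hF, ⟨e⟩⟩ := hX
  let π : K →* PSU 6 F 2 := e.toMonoidHom.comp (QuotientGroup.mk' (center K))
  have hk : π.ker = center K := by
    ext x
    rw [MonoidHom.mem_ker]
    show e (QuotientGroup.mk' (center K) x) = 1 ↔ _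
    rw [map_eq_one_iff e e.injective]
    exact QuotientGroup.eq_one_iff x
  have hs : Function.Surjective π := e.surjective.comp (QuotientGroup.mk'_surjective _)
  exact inner_of (π := π) (hF.trans (by norm_num)) hp hs hk (IsPGroup.of_card (n := 2) (by rw [h4]; norm_num))
    (by omega) hα

end Cfsg.Agent.OddHalf.D9.RankTwo.InnU
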