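import Cfsg.Agent.R01.Label
import Cfsg.Agent.R01.BaerSplit

/-!
# Central 2-extensions of `PSU 6 F 2`, `|F| = 4` (helper103)

`π : K → PSU 6 F 2` surjective, the kernel central and a 2-group. `exists_lamK`: the transvections have lifts
`lam v` (`v` isotropic), permuted by `K` like the transvections, involutions, with product one over every
totally isotropic line.
-/

set_option autoImplicit false
set_option linter.unusedSectionVars false

namespace Cfsg.Agent.OddHalf.D9.RankTwo.LamK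

open Cfsg Cfsg.Agent.LieClassical.HermBasic Cfsg.Agent.ClassicalGeometry.UnitTransv
open Cfsg.Agent.SporadicStructure.UnitTwo
open Cfsg.Agent.R01.Lifts Cfsg.Agent.R01.PSUSix
open Cfsg.Agent.ClassicalGeometry.UnitAutBasic (tau pr pr_surjective)

theorem eq_one_of_pow {Z : Type*} [Group Z] (h2 : IsPGroup 2 Z) {c : Z} {n : ℕ} (hn : Odd n)
    (h : c ^ n = 1) : c = 1 := by
  obtain ⟨k, hk⟩ := h2 c
  have h1 : orderOf c ∣ n := orderOf_dvd_of_pow_eq_one h
  have h3 : orderOf c ∣ 2 ^ k := orderOf_dvd_of_pow_eq_one hk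
  have h4 : Nat.Coprime (2 ^ k) n := (Nat.coprime_two_left.2 hn).pow_left k
  have h5 : orderOf c ∣ Nat.gcd (2 ^ k) n := Nat.dvd_gcd h3 h1
  rw [h4.gcd_eq_one, Nat.dvd_one] at h5
  exact orderOf_eq_one_iff.1 h5

section General

variable {C U : Type*} [Group C] [Group U] {π : C →* U}

/-- elements with the same image differ by an element of the kernel -/
theorem mem_ker_of_eq {a b : C} (h : π a = π b) : π (b⁻¹ * a) = 1 := by
  rw [map_mul, map_inv, h, inv_mul_cancel]

/-- Lifts of a 3-transposition and of an element commuting with it commute. -/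
theorem commute_lift (hs : Function.Surjective π) (hcen : ∀ z, π z = 1 → ∀ c : C, c * z = z * c)
    (hp : IsPGroup 2 π.ker) {T : Set U}
    (h2 : ∀ a ∈ T, ∀ b ∈ T, ∀ a' ∈ T, ∀ b' ∈ T, a ≠ b → a' ≠ b' → Commute a b → Commute a' b' →
      ∃ g : U, g * a * g⁻¹ = a' ∧ g * b * g⁻¹ = b')
    (h3 : ∃ l : List U, Odd l.length ∧ (∀ x ∈ l, x ∈ T) ∧ l.prod = 1 ∧
      ∃ r ∈ T, ∀ x ∈ l, r ≠ x ∧ Commute r x)
    (h4 : ∀ t ∈ T, Subgroup.centralizer {t} ≤ Subgroup.closure (T ∩ {u | Commute t u}))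
    {a g : C} (ha : π a ∈ T) (hc : Commute (π g) (π a)) : Commute g a := by
  obtain ⟨l, hlo, hlT, hlp, r, hrT, hr⟩ := h3
  choose σ hσ using hs
  obtain ⟨x0, l', rfl⟩ : ∃ x0 l', l = x0 :: l' := by
    cases l with
    | nil => simp at hlo
    | cons x l => exact ⟨x, l, rfl⟩
  set ρ := σ r with hρ
  have hx0 := hr x0 List.mem_cons_self
  have hx0T := hlT x0 List.mem_cons_self
  set ζ : C := (σ x0)⁻¹ * (ρ * σ x0 * ρ⁻¹) with hζ
  have hζ1 : π ζ = 1 := by
    rw [hζ, map_mul, map_inv, map_mul, map_mul, map_inv, hσ, hρ, hσ, (hx0.2).eq, mul_inv_cancel_right,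
      inv_mul_cancel]
  have hζc := hcen ζ hζ1
  -- all pairs
  have hall : ∀ a b : C, π a ∈ T → π b ∈ T → π a ≠ π b → Commute (π a) (π b) → a * b * a⁻¹ = b * ζ := by
    intro a b ha hb hne hab
    obtain ⟨g, hg1, hg2⟩ := h2 (π a) ha (π b) hb r hrT x0 hx0T hne hx0.1 hab hx0.2
    set γ := σ g with hγ
    have e1 : π (ρ⁻¹ * (γ * a * γ⁻¹)) = 1 := by
      apply mem_ker_of_eq
      rw [map_mul, map_mul, map_inv, hγ, hσ, hg1, hρ, hσ]
    have e2 : π ((σ x0)⁻¹ * (γ * b * γ⁻¹)) = 1 := by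
      apply mem_ker_of_eq
      rw [map_mul, map_mul, map_inv, hγ, hσ, hg2, hσ]
    set z1 := ρ⁻¹ * (γ * a * γ⁻¹) with hz1
    set z2 := (σ x0)⁻¹ * (γ * b * γ⁻¹) with hz2
    have f1 : γ * a * γ⁻¹ = ρ * z1 := by rw [hz1, mul_inv_cancel_left]
    have f2 : γ * b * γ⁻¹ = σ x0 * z2 := by rw [hz2, mul_inv_cancel_left]
    have c1 := hcen z1 e1
    have c2 := hcen z2 e2
    have key : γ * (a * b * a⁻¹) * γ⁻¹ = γ * (b * ζ) * γ⁻¹ := by
      calc γ * (a * b * a⁻¹) * γ⁻¹ = (γ * a * γ⁻¹) * (γ * b * γ⁻¹) * (γ * a * γ⁻¹)⁻¹ := by group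
        _ = ρ * z1 * (σ x0 * z2) * (ρ * z1)⁻¹ := by rw [f1, f2]
        _ = ρ * (z1 * (σ x0 * z2)) * z1⁻¹ * ρ⁻¹ := by group
        _ = ρ * ((σ x0 * z2) * z1) * z1⁻¹ * ρ⁻¹ := by rw [c1]
        _ = ρ * σ x0 * (z2 * ρ⁻¹) := by group
        _ = ρ * σ x0 * (ρ⁻¹ * z2) := by rw [c2]
        _ = σ x0 * ((σ x0)⁻¹ * (ρ * σ x0 * ρ⁻¹)) * z2 := by group
        _ = σ x0 * (ζ * z2) := by rw [← hζ, mul_assoc]
        _ = σ x0 * z2 * ζ := by rw [c2 ζ, ← mul_assoc]
        _ = (γ * b * γ⁻¹) * ζ := by rw [f2]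
        _ = γ * b * (γ⁻¹ * ζ) := by group
        _ = γ * b * (ζ * γ⁻¹) := by rw [hζc]
        _ = γ * (b * ζ) * γ⁻¹ := by group
    exact mul_left_cancel (mul_right_cancel key)
  -- `ζ = 1`
  have hζe : ζ = 1 := by
    have h5 : ∀ y ∈ ((x0 :: l').map σ), ρ * y * ρ⁻¹ = y * ζ := by
      intro y hy
      obtain ⟨x, hx, rfl⟩ := List.mem_map.1 hy
      apply hall
      · rw [hρ, hσ]; exact hrT
      · rw [hσ]; exact hlT x hx
      · rw [hρ, hσ, hσ]; exact (hr x hx).1
      · rw [hρ, hσ, hσ]; exact (hr x hx).2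
    have h6 := conj_prod hζc _ h5
    have h7 : π ((x0 :: l').map σ).prod = 1 := by
      rw [map_list_prod, List.map_map]
      have : (x0 :: l').map (π ∘ σ) = x0 :: l' := by
        conv_rhs => rw [← List.map_id (x0 :: l')]
        exact List.map_congr_left fun x _ => hσ x
      rw [this, hlp]
    have h8 := hcen _ h7 ρ
    rw [h8, mul_inv_cancel_right, List.length_map] at h6
    have h9 : ζ ^ (x0 :: l').length = 1 := by
      have := h6.symm
      rwa [mul_eq_left] at this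
    have h10 : (⟨ζ, hζ1⟩ : π.ker) = 1 := eq_one_of_pow hp hlo (Subtype.ext (by simpa using h9))
    exact congrArg Subtype.val h10
  -- the general case
  have h11 : π g ∈ Subgroup.closure (T ∩ {u | Commute (π a) u}) := by
    apply h4 _ ha
    rw [Subgroup.mem_centralizer_singleton_iff]
    exact hc.eq
  have h12 : ∀ x ∈ Subgroup.closure (T ∩ {u | Commute (π a) u}), ∀ g : C, π g = x → Commute g a := by
    intro x hx
    refine Subgroup.closure_induction (p := fun x _ => ∀ g : C, π g = x → Commute g a) ?_ ?_ ?_ ?_ hx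
    · rintro x ⟨hxT, hxc⟩ g rfl
      by_cases h : π g = π a
      · have h13 := hcen _ (mem_ker_of_eq h) a
        show g * a = a * g
        calc g * a = a * (a⁻¹ * g) * a := by group
          _ = a * (a * (a⁻¹ * g)) := by rw [mul_assoc, ← h13]
          _ = a * g := by group
      · have h13 := hall g a hxT ha h hxc.symm
        rw [hζe, mul_one, mul_inv_eq_iff_eq_mul] at h13
        exact h13
    · intro g hg
      exact (hcen g hg a).symm
    · intro x y _ _ hx hy g hg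
      have h13 : π ((σ x * σ y)⁻¹ * g) = 1 := mem_ker_of_eq (by rw [hg, map_mul, hσ, hσ])
      have h14 : g = (σ x * σ y) * ((σ x * σ y)⁻¹ * g) := by group
      rw [h14]
      exact ((hx _ (hσ x)).mul_left (hy _ (hσ y))).mul_left (hcen _ h13 a).symm
    · intro x _ hx g hg
      have := hx g⁻¹ (by rw [map_inv, hg, inv_inv])
      simpa using this.inv_left
  exact h12 _ h11 g rfl

end General

variable {F : Type*} [Field F] [Fintype F] (hF : Fintype.card F = 2 ^ 2)
variable {K : Type*} [Group K] (π : K →* PSU 6 F 2) (lam : (Fin 6 → F) → K)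

/-- The lifts of the transvections, normalised by the products over the totally isotropic lines. -/
structure Sys : Prop where
  surj : Function.Surjective π
  cen : ∀ z, π z = 1 → ∀ k : K, k * z = z * k
  pi : ∀ v, hermForm 6 F 2 v v = 0 → π (lam v) = tau hF v
  conj : ∀ (c : K) (g : SU 6 F 2) (v : Fin 6 → F), hermForm 6 F 2 v v = 0 → π c = pr 6 F 2 g →
    c * lam v * c⁻¹ = lam (act g v)
  zero : lam 0 = 1
  smul : ∀ (a : F) (v : Fin 6 → F), a ≠ 0 → hermForm 6 F 2 v v = 0 → lam (a • v) = lam v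
  sq : ∀ v, hermForm 6 F 2 v v = 0 → lam v * lam v = 1
  line : ∀ (a b : Fin 6 → F) (ω : F), hermForm 6 F 2 a a = 0 → hermForm 6 F 2 b b = 0 →
    hermForm 6 F 2 a b = 0 → (∀ x y : F, x • a + y • b = 0 → x = 0 ∧ y = 0) → ω ^ 2 + ω + 1 = 0 →
    lam a * lam b * lam (a + b) * lam (ω • a + b) * lam (ω ^ 2 • a + b) = 1

variable {hF π lam}

theorem act_ne_zero {g : SU 6 F 2} {v : Fin 6 → F} (h0 : v ≠ 0) : act g v ≠ 0 := by
  intro h
  apply h0
  apply act_injective g
  rw [h, act_zero]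

/-- The odd configuration on a totally isotropic plane. -/
theorem exists_config (hF : Fintype.card F = 2 ^ 2) : ∃ l : List (PSU 6 F 2), Odd l.length ∧
    (∀ x ∈ l, x ∈ TT hF 6) ∧ l.prod = 1 ∧ ∃ r ∈ TT hF 6, ∀ x ∈ l, r ≠ x ∧ Commute r x := by
  obtain ⟨ω, hω⟩ := exists_omega hF
  have h2 := two_eq_zero hF
  -- vectors
  let a : Fin 6 → F := ![1, 1, 0, 0, 0, 0]
  let b : Fin 6 → F := ![0, 0, 1, 1, 0, 0]
  let r : Fin 6 → F := ![0, 0, 0, 0, 1, 1]
  have haa : hermForm 6 F 2 a a = 0 := by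
    rw [herm_def]; simp [a, Fin.sum_univ_succ]; linear_combination h2
  have hbb : hermForm 6 F 2 b b = 0 := by
    rw [herm_def]; simp [b, Fin.sum_univ_succ]; linear_combination h2
  have hrr : hermForm 6 F 2 r r = 0 := by
    rw [herm_def]; simp [r, Fin.sum_univ_succ]; linear_combination h2
  have hab : hermForm 6 F 2 a b = 0 := by
    rw [herm_def]; simp [a, b, Fin.sum_univ_succ]
  have hra : hermForm 6 F 2 r a = 0 := by
    rw [herm_def]; simp [a, r, Fin.sum_univ_succ]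
  have hrb : hermForm 6 F 2 r b = 0 := by
    rw [herm_def]; simp [b, r, Fin.sum_univ_succ]
  have hba := herm_eq_zero_swap hF hab
  have hne0 : ∀ s t : F, (s ≠ 0 ∨ t ≠ 0) → s • a + t • b ≠ 0 := by
    intro s t hst h0
    have e0 := congrFun h0 0
    have e2 := congrFun h0 2
    simp [a, b] at e0 e2
    rcases hst with h | h
    · exact h e0
    · exact h e2
  have hr0 : r ≠ 0 := by
    intro h
    have := congrFun h 4
    simp [r] at this
  have hrne : ∀ s t c : F, r ≠ c • (s • a + t • b) := by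
    intro s t c h
    have := congrFun h 4
    simp [r, a, b] at this
  clear_value a b r
  have horth : ∀ s t s' t' : F, hermForm 6 F 2 (s • a + t • b) (s' • a + t' • b) = 0 := by
    intro s t s' t'
    rw [herm_add_left, herm_add_right hF, herm_add_right hF, herm_smul_left, herm_smul_left,
      herm_smul_right, herm_smul_right, herm_smul_left, herm_smul_left,
      herm_smul_right, herm_smul_right, haa, hbb, hab, hba]
    ring
  have hrorth : ∀ s t : F, hermForm 6 F 2 r (s • a + t • b) = 0 := by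
    intro s t
    rw [herm_add_right hF, herm_smul_right, herm_smul_right, hra, hrb]
    ring
  have hmem : ∀ x ∈ [tau hF a, tau hF b, tau hF (a + b), tau hF (ω • a + b),
      tau hF (ω ^ 2 • a + b)], ∃ s t : F, (s ≠ 0 ∨ t ≠ 0) ∧ x = tau hF (s • a + t • b) := by
    intro x hx
    simp only [List.mem_cons, List.not_mem_nil, or_false] at hx
    rcases hx with rfl | rfl | rfl | rfl | rfl
    · exact ⟨1, 0, Or.inl one_ne_zero, by rw [one_smul, zero_smul, add_zero]⟩
    · exact ⟨0, 1, Or.inr one_ne_zero, by rw [one_smul, zero_smul, zero_add]⟩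
    · exact ⟨1, 1, Or.inl one_ne_zero, by rw [one_smul, one_smul]⟩
    · exact ⟨ω, 1, Or.inr one_ne_zero, by rw [one_smul]⟩
    · exact ⟨ω ^ 2, 1, Or.inr one_ne_zero, by rw [one_smul]⟩
  refine ⟨[tau hF a, tau hF b, tau hF (a + b), tau hF (ω • a + b), tau hF (ω ^ 2 • a + b)],
    ⟨2, rfl⟩, ?_, ?_, tau hF r, tau_mem hF hr0 hrr, ?_⟩
  · intro x hx
    obtain ⟨s, t, hst, rfl⟩ := hmem x hx
    exact tau_mem hF (hne0 s t hst) (horth s t s t)
  · simp only [List.prod_cons, List.prod_nil, mul_one, ← mul_assoc]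
    exact line_prod hF haa hbb hab hω
  · intro x hx
    obtain ⟨s, t, hst, rfl⟩ := hmem x hx
    refine ⟨?_, (tau_commute_iff hF (by norm_num) hrr (horth s t s t) hr0).2 (hrorth s t)⟩
    intro h
    obtain ⟨c, hc0, hc⟩ := (tau_eq_iff hF (by norm_num) (horth s t s t) hrr (hne0 s t hst)).1 h.symm
    exact hrne s t c hc

/-- A totally isotropic line. -/
theorem exists_line (hF : Fintype.card F = 2 ^ 2) : ∃ a b : Fin 6 → F, a ≠ 0 ∧ b ≠ 0 ∧
    hermForm 6 F 2 a a = 0 ∧ hermForm 6 F 2 b b = 0 ∧ hermForm 6 F 2 a b = 0 ∧ ¬ ∃ c : F, b = c • a := by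
  have h2 := two_eq_zero hF
  refine ⟨![1, 1, 0, 0, 0, 0], ![0, 0, 1, 1, 0, 0], ?_, ?_, ?_, ?_, ?_, ?_⟩
  · intro h
    simpa using congrFun h 0
  · intro h
    simpa using congrFun h 2
  · rw [herm_def]; simp [Fin.sum_univ_succ]; linear_combination h2
  · rw [herm_def]; simp [Fin.sum_univ_succ]; linear_combination h2
  · rw [herm_def]; simp [Fin.sum_univ_succ]
  · rintro ⟨c, hc⟩
    simpa using congrFun hc 2

/-- Elements commuting with a transvection modulo the kernel commute with its lifts. -/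
theorem commute_lift_psu (hF : Fintype.card F = 2 ^ 2) (hs : Function.Surjective π)
    (hcen : ∀ z, π z = 1 → ∀ c : K, c * z = z * c)
    (hp : IsPGroup 2 π.ker) {a g : K} (ha : π a ∈ TT hF 6) (hc : Commute (π g) (π a)) : Commute g a :=
  commute_lift hs hcen hp (Cfsg.Agent.R01.PSUSix.trans_commuting hF (by norm_num)) (exists_config hF)
    (centralizer_le hF) ha hc

/-- **Existence of the lifts.** -/
theorem exists_lamK (hF : Fintype.card F = 2 ^ 2) (hs : Function.Surjective π)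
    (hcen : ∀ z, π z = 1 → ∀ c : K, c * z = z * c) (hp : IsPGroup 2 π.ker) :
    ∃ lam : (Fin 6 → F) → K, Sys hF π lam := by
  classical
  have hcent : ∀ a g : K, π a ∈ TT hF 6 → Commute (π g) (π a) → Commute g a := fun a g =>
    commute_lift_psu hF hs hcen hp
  have htr : ∀ v w : Fin 6 → F, v ≠ 0 → w ≠ 0 → hermForm 6 F 2 v v = 0 → hermForm 6 F 2 w w = 0 →
      ∃ c : K, π c * tau hF v * (π c)⁻¹ = tau hF w := by
    intro v w hv0 hw0 hv hw
    obtain ⟨g, d, hd, hg⟩ := exists_map hF v w hv0 hw0 hv hw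
    obtain ⟨c, hc⟩ := hs (pr 6 F 2 g)
    exact ⟨c, by rw [hc, conj_tau hF g hv, hg, tau_smul hF hw hd]⟩
  obtain ⟨_, ⟨v0, hv00, hv0, rfl⟩, -⟩ := (exists_config hF).choose_spec.2.2.2
  obtain ⟨t0, ht0⟩ := hs (tau hF v0)
  -- the class of `t0`
  have hsurj : ∀ v : Fin 6 → F, v ≠ 0 → hermForm 6 F 2 v v = 0 →
      ∃ x : K, IsConj t0 x ∧ π x = tau hF v := by
    intro v h0 hv
    obtain ⟨c, hc⟩ := htr v0 v hv00 h0 hv0 hv
    exact ⟨c * t0 * c⁻¹, isConj_iff.2 ⟨c, rfl⟩, by rw [map_mul, map_mul, map_inv, ht0, hc]⟩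
  have hinj : ∀ x y : K, IsConj t0 x → IsConj t0 y → π x = π y → x = y := by
    intro x y hx hy hxy
    obtain ⟨c, rfl⟩ := isConj_iff.1 hx
    obtain ⟨d, rfl⟩ := isConj_iff.1 hy
    have h1 : Commute (d⁻¹ * c) t0 := by
      apply hcent
      · rw [ht0]; exact tau_mem hF hv00 hv0
      · show π (d⁻¹ * c) * π t0 = π t0 * π (d⁻¹ * c)
        simp only [map_mul, map_inv] at hxy ⊢
        calc (π d)⁻¹ * π c * π t0 = (π d)⁻¹ * (π c * π t0 * (π c)⁻¹) * π c := by group
          _ = (π d)⁻¹ * (π d * π t0 * (π d)⁻¹) * π c := by rw [hxy]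
          _ = π t0 * ((π d)⁻¹ * π c) := by group
    calc c * t0 * c⁻¹ = d * ((d⁻¹ * c) * t0) * c⁻¹ := by group
      _ = d * (t0 * (d⁻¹ * c)) * c⁻¹ := by rw [h1.eq]
      _ = d * t0 * d⁻¹ := by group
  let lift : (Fin 6 → F) → K := fun v =>
    if hv : v ≠ 0 ∧ hermForm 6 F 2 v v = 0 then (hsurj v hv.1 hv.2).choose else 1
  have hlift : ∀ v : Fin 6 → F, v ≠ 0 → hermForm 6 F 2 v v = 0 →
      IsConj t0 (lift v) ∧ π (lift v) = tau hF v := by
    intro v h0 hv
    simp only [lift, dif_pos (And.intro h0 hv)]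
    exact (hsurj v h0 hv).choose_spec
  have huniq : ∀ v : Fin 6 → F, v ≠ 0 → hermForm 6 F 2 v v = 0 → ∀ x, IsConj t0 x → π x = tau hF v →
      x = lift v := by
    intro v h0 hv x hx hxv
    exact hinj _ _ hx (hlift v h0 hv).1 (by rw [hxv, (hlift v h0 hv).2])
  have hsmul : ∀ v (c : F), hermForm 6 F 2 v v = 0 → c ≠ 0 → lift (c • v) = lift v := by
    intro v c hv hc
    by_cases h0 : v = 0
    · subst h0; rw [smul_zero]
    · have h0' : c • v ≠ 0 := smul_ne_zero hc h0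
      have hv' := herm_smul_self hF hv c
      apply huniq v h0 hv _ (hlift _ h0' hv').1
      rw [(hlift _ h0' hv').2, tau_smul hF hv hc]
  have hconj : ∀ c g v, π c = pr 6 F 2 g → v ≠ 0 → hermForm 6 F 2 v v = 0 →
      c * lift v * c⁻¹ = lift (act g v) := by
    intro c g v hc h0 hv
    apply huniq _ (act_ne_zero h0) (by rw [herm_act, hv]) _
      ((hlift v h0 hv).1.trans (isConj_iff.2 ⟨c, rfl⟩))
    rw [map_mul, map_mul, map_inv, hc, (hlift v h0 hv).2, conj_tau hF g hv]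
  have hcommL : ∀ v w : Fin 6 → F, v ≠ 0 → w ≠ 0 → hermForm 6 F 2 v v = 0 →
      hermForm 6 F 2 w w = 0 → hermForm 6 F 2 v w = 0 → Commute (lift v) (lift w) := by
    intro v w hv0 hw0 hv hw hvw
    apply hcent
    · rw [(hlift w hw0 hw).2]; exact tau_mem hF hw0 hw
    · rw [(hlift w hw0 hw).2, (hlift v hv0 hv).2]
      exact (tau_commute_iff hF (by norm_num) hv hw hv0).2 hvw
  obtain ⟨ω₀, hω₀⟩ := exists_omega hF
  have hω3 := omega_cubed hω₀
  have hω0 : ω₀ ≠ 0 := by rintro rfl; simp at hω₀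
  have h2 := two_eq_zero hF
  -- the lines
  let Line : (Fin 6 → F) → (Fin 6 → F) → Prop := fun a b => a ≠ 0 ∧ b ≠ 0 ∧
    hermForm 6 F 2 a a = 0 ∧ hermForm 6 F 2 b b = 0 ∧ hermForm 6 F 2 a b = 0 ∧
    ¬ ∃ c : F, b = c • a
  let P : (Fin 6 → F) → (Fin 6 → F) → K := fun a b =>
    lift a * lift b * lift (a + b) * lift (ω₀ • a + b) * lift (ω₀ ^ 2 • a + b)
  have hpt : ∀ a b, Line a b → ∀ c : F, c • a + b ≠ 0 ∧
      hermForm 6 F 2 (c • a + b) (c • a + b) = 0 := by
    rintro a b ⟨ha0, hb0, ha, hb, hab, hne⟩ c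
    refine ⟨fun h => hne ⟨-c, ?_⟩, ?_⟩
    · rw [neg_smul]; exact eq_neg_of_add_eq_zero_right h
    · rw [herm_add_left, herm_add_right hF, herm_add_right hF, herm_smul_left, herm_smul_left,
        herm_smul_right, herm_smul_right, ha, hb, hab, herm_eq_zero_swap hF hab]
      ring
  have hptc : ∀ a b, Line a b → ∀ c d : F, Commute (lift (c • a + b)) (lift (d • a + b)) := by
    intro a b hL c d
    obtain ⟨h1, h2⟩ := hpt a b hL c
    obtain ⟨h3, h4⟩ := hpt a b hL d
    apply hcommL _ _ h1 h3 h2 h4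
    obtain ⟨ha0, hb0, ha, hb, hab, hne⟩ := hL
    rw [herm_add_left, herm_add_right hF, herm_add_right hF, herm_smul_left, herm_smul_left,
      herm_smul_right, herm_smul_right, ha, hb, hab, herm_eq_zero_swap hF hab]
    ring
  have hP1 : ∀ a b, Line a b → π (P a b) = 1 := by
    intro a b hL
    have e1 := (hlift _ (hpt a b hL 1).1 (hpt a b hL 1).2).2
    have e2 := (hlift _ (hpt a b hL ω₀).1 (hpt a b hL ω₀).2).2
    have e3 := (hlift _ (hpt a b hL (ω₀ ^ 2)).1 (hpt a b hL (ω₀ ^ 2)).2).2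
    rw [one_smul] at e1
    obtain ⟨ha0, hb0, ha, hb, hab, hne⟩ := hL
    simp only [P, map_mul]
    rw [(hlift a ha0 ha).2, (hlift b hb0 hb).2, e1, e2, e3]
    exact line_prod hF ha hb hab hω₀
  have hPcyc : ∀ a b, Line a b → ∀ l : F, l ≠ 0 → lift (l • a + b) * lift ((ω₀ * l) • a + b) *
      lift ((ω₀ ^ 2 * l) • a + b) = lift (a + b) * lift (ω₀ • a + b) * lift (ω₀ ^ 2 • a + b) := by
    intro a b hL l hl
    have c1 := hptc a b hL 1 ω₀
    have c2 := hptc a b hL 1 (ω₀ ^ 2)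
    have c3 := hptc a b hL ω₀ (ω₀ ^ 2)
    rw [one_smul] at c1 c2
    have hl' : l = 1 ∨ l = ω₀ ∨ l = ω₀ ^ 2 := by
      have h3 := pow_three hF hl
      have : (l - 1) * ((l - ω₀) * (l - ω₀ ^ 2)) = 0 := by
        linear_combination h3 + (l - l ^ 2) * hω₀ + (l - 1) * hω3
      rcases mul_eq_zero.1 this with h5 | h5
      · left; linear_combination h5
      · rcases mul_eq_zero.1 h5 with h5 | h5
        · right; left; linear_combination h5
        · right; right; linear_combination h5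
    rcases hl' with hl' | hl' | hl' <;> rw [hl']
    · rw [one_smul, mul_one, mul_one]
    · have e1 : ω₀ * ω₀ = ω₀ ^ 2 := by ring
      have e2 : ω₀ ^ 2 * ω₀ = 1 := by linear_combination hω3
      rw [e1, e2, one_smul]
      rw [(c1.mul_right c2).eq.symm]
      group
    · have e1 : ω₀ * ω₀ ^ 2 = 1 := by linear_combination hω3
      have e2 : ω₀ ^ 2 * ω₀ ^ 2 = ω₀ := by linear_combination ω₀ * hω3
      rw [e1, e2, one_smul]
      rw [mul_assoc, (c2.symm.mul_right c3.symm).eq]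
  have hPs : ∀ a b, Line a b → ∀ c d : F, c ≠ 0 → d ≠ 0 → P (c • a) (d • b) = P a b := by
    intro a b hL c d hc hd
    have e0 : ∀ s : F, lift (s • (c • a) + d • b) = lift ((s * (c * d⁻¹)) • a + b) := by
      intro s
      have : s • (c • a) + d • b = d • ((s * (c * d⁻¹)) • a + b) := by
        rw [smul_add, smul_smul, smul_smul]
        congr 2
        field_simp
      rw [this, hsmul _ d (hpt a b hL _).2 hd]
    have e1 := e0 1
    rw [one_smul, one_mul] at e1
    simp only [P]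
    rw [hsmul a c hL.2.2.1 hc, hsmul b d hL.2.2.2.1 hd, e1, e0, e0]
    have := hPcyc a b hL (c * d⁻¹) (mul_ne_zero hc (inv_ne_zero hd))
    simp only [mul_assoc] at this ⊢
    rw [this]
  have hPg : ∀ a b, Line a b → ∀ g : SU 6 F 2, P (act g a) (act g b) = P a b := by
    intro a b hL g
    obtain ⟨c, hc⟩ := hs (pr 6 F 2 g)
    have f1 := hconj c g _ hc hL.1 hL.2.2.1
    have f2 := hconj c g _ hc hL.2.1 hL.2.2.2.1
    have f3 := fun s : F => hconj c g _ hc (hpt a b hL s).1 (hpt a b hL s).2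
    have f4 := f3 1
    simp only [act_add, act_smul] at f3
    rw [one_smul, act_add] at f4
    have : P (act g a) (act g b) = c * P a b * c⁻¹ := by
      simp only [P]
      rw [← f1, ← f2, ← f4, ← f3, ← f3]
      group
    rw [this, hcen _ (hP1 a b hL), mul_inv_cancel_right]
  have hPall : ∀ a b a' b', Line a b → Line a' b' → P a b = P a' b' := by
    intro a b a' b' hL hL'
    obtain ⟨ha0, hb0, ha, hb, hab, hne⟩ := hL
    obtain ⟨ha0', hb0', ha', hb', hab', hne'⟩ := hL'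
    obtain ⟨x, hx1, hx2⟩ := Cfsg.Agent.R01.PSUSix.trans_commuting hF (by norm_num : 3 ≤ 6) _ (tau_mem hF ha0 ha) _
      (tau_mem hF hb0 hb) _ (tau_mem hF ha0' ha') _ (tau_mem hF hb0' hb')
      (fun h5 => by
        obtain ⟨c, -, hc⟩ := (tau_eq_iff hF (by norm_num) ha hb ha0).1 h5
        exact hne ⟨c, hc⟩)
      (fun h5 => by
        obtain ⟨c, -, hc⟩ := (tau_eq_iff hF (by norm_num) ha' hb' ha0').1 h5
        exact hne' ⟨c, hc⟩)
      ((tau_commute_iff hF (by norm_num) ha hb ha0).2 hab)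
      ((tau_commute_iff hF (by norm_num) ha' hb' ha0').2 hab')
    obtain ⟨g, rfl⟩ := pr_surjective x
    rw [conj_tau hF g ha, eq_comm, tau_eq_iff hF (by norm_num) ha' (by rw [herm_act, ha]) ha0'] at hx1
    rw [conj_tau hF g hb, eq_comm, tau_eq_iff hF (by norm_num) hb' (by rw [herm_act, hb]) hb0'] at hx2
    obtain ⟨c, hc0, hc⟩ := hx1
    obtain ⟨d, hd0, hd⟩ := hx2
    rw [← hPg a b ⟨ha0, hb0, ha, hb, hab, hne⟩ g, hc, hd,
      hPs a' b' ⟨ha0', hb0', ha', hb', hab', hne'⟩ c d hc0 hd0]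
  -- the normalisation
  obtain ⟨ε₀, hε1, hε₀⟩ : ∃ ε₀ : K, π ε₀ = 1 ∧ ∀ a b, Line a b → P a b = ε₀ := by
    by_cases hex : ∃ a b, Line a b
    · obtain ⟨a, b, hL⟩ := hex
      exact ⟨P a b, hP1 a b hL, fun a' b' hL' => hPall a' b' a b hL' hL⟩
    · exact ⟨1, map_one π, fun a b hL => absurd ⟨a, b, hL⟩ hex⟩
  obtain ⟨ζ, hζ1, hζ5⟩ : ∃ ζ : K, π ζ = 1 ∧ ζ ^ 5 * ε₀ = 1 := by
    have hco : Nat.Coprime 2 5 := by norm_num
    refine ⟨((hp.powEquiv hco).symm (⟨ε₀, hε1⟩ : π.ker)⁻¹ : π.ker), ?_, ?_⟩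
    · exact ((hp.powEquiv hco).symm (⟨ε₀, hε1⟩ : π.ker)⁻¹ : π.ker).2
    · have h5 : ((hp.powEquiv hco).symm (⟨ε₀, hε1⟩ : π.ker)⁻¹) ^ 5 = (⟨ε₀, hε1⟩ : π.ker)⁻¹ := by
        have := (hp.powEquiv hco).apply_symm_apply (⟨ε₀, hε1⟩ : π.ker)⁻¹
        rwa [IsPGroup.powEquiv_apply] at this
      have h6 := congrArg Subtype.val h5
      rw [Subgroup.coe_pow] at h6
      rw [h6]
      simp
  have hζc := hcen ζ hζ1
  have hline : ∀ a b, Line a b → (lift a * ζ) * (lift b * ζ) * (lift (a + b) * ζ) * (lift (ω₀ • a + b) * ζ) *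
      (lift (ω₀ ^ 2 • a + b) * ζ) = 1 := by
    intro a b hL
    have h5 : ∀ x y : K, x * ζ * (y * ζ) = x * y * (ζ * ζ) := fun x y => by
      rw [mul_assoc, ← mul_assoc ζ, ← hζc y]; group
    have h6 : ∀ n : ℕ, ∀ x y : K, x * ζ ^ n * (y * ζ) = x * y * ζ ^ (n + 1) := fun n x y => by
      have h7 : y * ζ ^ n = ζ ^ n * y := by
        induction n with
        | zero => simp
        | succ n ih => rw [pow_succ, ← mul_assoc, ih, mul_assoc, hζc, mul_assoc]
      rw [mul_assoc, ← mul_assoc (ζ ^ n), ← h7, pow_succ]; group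
    have h7 := h6 1
    have h8 := h6 2
    have h9 := h6 3
    have h10 := h6 4
    rw [pow_one] at h7
    rw [h7, h8, h9, h10]
    have := hε₀ a b hL
    simp only [P] at this
    rw [this, show (4 + 1 : ℕ) = 5 from rfl]
    have h11 : ε₀ * ζ ^ 5 = ζ ^ 5 * ε₀ := by
      rw [← hcen ε₀ hε1 (ζ ^ 5)]
    rw [h11, hζ5]
  -- the squares
  have hsq : ∀ v : Fin 6 → F, v ≠ 0 → hermForm 6 F 2 v v = 0 → (lift v * ζ) * (lift v * ζ) = 1 := by
    have hπ : ∀ v : Fin 6 → F, v ≠ 0 → hermForm 6 F 2 v v = 0 → π ((lift v * ζ) * (lift v * ζ)) = 1 := by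
      intro v h0 hv
      rw [map_mul, map_mul, hζ1, mul_one, (hlift v h0 hv).2, tau_mul_self hF hv]
    have hcst : ∀ v : Fin 6 → F, v ≠ 0 → hermForm 6 F 2 v v = 0 →
        (lift v * ζ) * (lift v * ζ) = (lift v0 * ζ) * (lift v0 * ζ) := by
      intro v h0 hv
      obtain ⟨g, d, hd, hg⟩ := exists_map hF v0 v hv00 h0 hv0 hv
      obtain ⟨c, hc⟩ := hs (pr 6 F 2 g)
      have h5 := hconj c g v0 hc hv00 hv0
      rw [hg, hsmul v d hv hd] at h5
      have h6 : c * (lift v0 * ζ) * c⁻¹ = lift v * ζ := by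
        rw [← h5, mul_assoc, mul_assoc, ← hζc c⁻¹]; group
      have h7 : c * ((lift v0 * ζ) * (lift v0 * ζ)) * c⁻¹ = (lift v * ζ) * (lift v * ζ) := by
        rw [← h6]; group
      rw [← h7, hcen _ (hπ v0 hv00 hv0) c, mul_inv_cancel_right]
    obtain ⟨a, b, hL⟩ : ∃ a b, Line a b := by
      obtain ⟨a, b, ha0, hb0, ha, hb, hab, hne⟩ := exists_line hF
      exact ⟨a, b, ha0, hb0, ha, hb, hab, hne⟩
    have h1 := hline a b hL
    have hz := hpt a b hL
    have hcc := hptc a b hL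
    have hs5 : ∀ x y : K, Commute x y → Commute (x * ζ) (y * ζ) := by
      intro x y hxy
      have hz1 : ∀ w : K, Commute w ζ := fun w => hζc w
      exact ((hxy.mul_right (hz1 x))).mul_left ((hz1 y).symm.mul_right (Commute.refl ζ))
    have z1 := hz 1
    rw [one_smul] at z1
    have l5 := sq_prod ((lift v0 * ζ) * (lift v0 * ζ)) [lift a * ζ, lift b * ζ, lift (a + b) * ζ,
      lift (ω₀ • a + b) * ζ, lift (ω₀ ^ 2 • a + b) * ζ] ?_ ?_ (hcen _ (hπ v0 hv00 hv0))
    · simp only [List.prod_cons, List.prod_nil, mul_one, List.length_cons, List.length_nil, zero_add] at l5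
      have h8 : lift a * ζ * (lift b * ζ * (lift (a + b) * ζ * (lift (ω₀ • a + b) * ζ *
          (lift (ω₀ ^ 2 • a + b) * ζ)))) = 1 := by
        rw [← h1]; group
      rw [h8, mul_one] at l5
      have h9 : (⟨_, hπ v0 hv00 hv0⟩ : π.ker) = 1 :=
        eq_one_of_pow hp (n := 5) (by decide) (Subtype.ext (by
          rw [Subgroup.coe_pow]; exact l5.symm))
      intro v h0 hv
      rw [hcst v h0 hv]
      exact congrArg Subtype.val h9
    · obtain ⟨ha0, hb0, ha, hb, hab, hne⟩ := hL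
      have hab' : ∀ c : F, hermForm 6 F 2 a (c • a + b) = 0 := fun c => by
        rw [herm_add_right hF, herm_smul_right, ha, hab]; ring
      have hbb' : ∀ c : F, hermForm 6 F 2 b (c • a + b) = 0 := fun c => by
        rw [herm_add_right hF, herm_smul_right, hb, herm_eq_zero_swap hF hab]; ring
      have ca : ∀ c : F, Commute (lift a) (lift (c • a + b)) := fun c =>
        hcommL _ _ ha0 (hz c).1 ha (hz c).2 (hab' c)
      have cb : ∀ c : F, Commute (lift b) (lift (c • a + b)) := fun c =>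
        hcommL _ _ hb0 (hz c).1 hb (hz c).2 (hbb' c)
      have ca1 := ca 1
      have cb1 := cb 1
      have c1 := hcc 1 ω₀
      have c2 := hcc 1 (ω₀ ^ 2)
      rw [one_smul] at ca1 cb1 c1 c2
      simp only [List.pairwise_cons, List.mem_cons, List.not_mem_nil, or_false, forall_eq_or_imp,
        forall_eq]
      refine ⟨⟨hs5 _ _ (hcommL _ _ ha0 hb0 ha hb hab), hs5 _ _ ca1, hs5 _ _ (ca _), hs5 _ _ (ca _)⟩,
        ⟨hs5 _ _ cb1, hs5 _ _ (cb _), hs5 _ _ (cb _)⟩, ⟨hs5 _ _ c1, hs5 _ _ c2⟩,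
        hs5 _ _ (hcc _ _), by simp, List.Pairwise.nil⟩
    · intro x hx
      obtain ⟨ha0, hb0, ha, hb, hab, hne⟩ := hL
      simp only [List.mem_cons, List.not_mem_nil, or_false] at hx
      rcases hx with rfl | rfl | rfl | rfl | rfl
      · exact hcst _ ha0 ha
      · exact hcst _ hb0 hb
      · exact hcst _ z1.1 z1.2
      · exact hcst _ (hz _).1 (hz _).2
      · exact hcst _ (hz _).1 (hz _).2
  refine ⟨fun v => if v ≠ 0 ∧ hermForm 6 F 2 v v = 0 then lift v * ζ else 1, hs, hcen, ?_, ?_, ?_, ?_, ?_, ?_⟩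
  · intro v hv
    by_cases h0 : v = 0
    · rw [if_neg (fun h => h.1 h0), h0, map_one, Cfsg.Agent.ClassicalGeometry.UnitAutBasic.tau_zero]
    · rw [if_pos ⟨h0, hv⟩, map_mul, hζ1, mul_one, (hlift v h0 hv).2]
  · intro c g v hv hc
    by_cases h0 : v = 0
    · rw [if_neg (fun h => h.1 h0), h0, act_zero, if_neg (fun h => h.1 rfl)]; group
    · rw [if_pos ⟨h0, hv⟩, if_pos ⟨act_ne_zero h0, by rw [herm_act, hv]⟩, ← hconj c g v hc h0 hv,
        mul_assoc, mul_assoc, ← hζc c⁻¹]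
      group
  · exact if_neg (fun h => h.1 rfl)
  · intro a v ha hv
    by_cases h0 : v = 0
    · rw [h0, smul_zero]
    · rw [if_pos ⟨smul_ne_zero ha h0, herm_smul_self hF hv a⟩, if_pos ⟨h0, hv⟩, hsmul v a hv ha]
  · intro v hv
    by_cases h0 : v = 0
    · rw [if_neg (fun h => h.1 h0), mul_one]
    · rw [if_pos ⟨h0, hv⟩]
      exact hsq v h0 hv
  · intro a b ω ha hb hab hind hω
    have ha0 : a ≠ 0 := by
      rintro rfl
      exact one_ne_zero (hind 1 0 (by simp)).1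
    have hb0 : b ≠ 0 := by
      rintro rfl
      exact one_ne_zero (hind 0 1 (by simp)).2
    have hne : ¬ ∃ c : F, b = c • a := by
      rintro ⟨c, rfl⟩
      have := (hind (-c) 1 (by rw [one_smul, neg_smul, neg_add_cancel])).2
      exact one_ne_zero this
    have hL : Line a b := ⟨ha0, hb0, ha, hb, hab, hne⟩
    have hz := hpt a b hL
    have z1 := hz 1
    rw [one_smul] at z1
    rw [if_pos ⟨ha0, ha⟩, if_pos ⟨hb0, hb⟩, if_pos z1, if_pos (hz _), if_pos (hz _)]
    have hcase : ω = ω₀ ∨ ω = ω₀ ^ 2 := by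
      have : (ω - ω₀) * (ω - ω₀ ^ 2) = 0 := by
        linear_combination hω - ω * hω₀ + hω3
      rcases mul_eq_zero.1 this with h5 | h5
      · left; linear_combination h5
      · right; linear_combination h5
    have h1 := hline a b hL
    rcases hcase with rfl | rfl
    · exact h1
    · have e4 : (ω₀ ^ 2) ^ 2 = ω₀ := by linear_combination ω₀ * hω3
      rw [e4]
      have hs5 : ∀ x y : K, Commute x y → Commute (x * ζ) (y * ζ) := by
        intro x y hxy
        have hz1 : ∀ w : K, Commute w ζ := fun w => hζc w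
        exact ((hxy.mul_right (hz1 x))).mul_left ((hz1 y).symm.mul_right (Commute.refl ζ))
      rw [mul_assoc _ (lift (ω₀ ^ 2 • a + b) * ζ), (hs5 _ _ (hptc a b hL (ω₀ ^ 2) ω₀)).eq, ← mul_assoc]
      exact h1

end Cfsg.Agent.OddHalf.D9.RankTwo.LamK
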