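import Cfsg.Agent.OddHalf.D9.RankTwo.LamK
import Cfsg.Agent.R01.InvForm
import Cfsg.Agent.KFacts.OddLift.Frat

/-!
# The products over the hyperovals of a totally isotropic plane (helper103)

`ov lam ω t u v w` is the product of the lifts of the six transvections of the hyperoval
`u, v, w, u + ω^i v + t ω^{2i} w`. It is in the kernel, has square one, does not depend on the frame up to
multiplying `t` by a scalar, the product of the three values `t ∈ μ₃` is one, and the kernel is generated by the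
values (`ker_eq`): the 2-part of the multiplier of `PSU 6 F 2` is elementary abelian of order at most four.
-/

set_option autoImplicit false
set_option linter.unusedSectionVars false

namespace Cfsg.Agent.OddHalf.D9.RankTwo.LamOval

open Cfsg Cfsg.Agent.LieClassical.HermBasic Cfsg.Agent.ClassicalGeometry.UnitTransv
open Cfsg.Agent.SporadicStructure.UnitTwo
open Cfsg.Agent.R01.Lifts Cfsg.Agent.R01.PSUSix Cfsg.Agent.R01.InvForm
open Cfsg.Agent.ClassicalGeometry.UnitAutBasic (tau pr pr_surjective)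
open Cfsg.Agent.OddHalf.D9.RankTwo.LamK

universe u

variable {F : Type*} [Field F] [Fintype F] {hF : Fintype.card F = 2 ^ 2}
variable {K : Type u} [Group K] {π : K →* PSU 6 F 2} {lam : (Fin 6 → F) → K}

theorem conj_lam (S : Sys hF π lam) {x y : Fin 6 → F} (hx : hermForm 6 F 2 x x = 0)
    (hy : hermForm 6 F 2 y y = 0) :
    lam x * lam y * (lam x)⁻¹ = lam (y + hermForm 6 F 2 y x • x) := by
  have h1 := S.conj (lam x) (T hF x hx) y hy (by rw [S.pi x hx, tau_eq_pr hF hx])
  rwa [act_T] at h1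

theorem comm_lam (S : Sys hF π lam) {x y : Fin 6 → F} (hx : hermForm 6 F 2 x x = 0)
    (hy : hermForm 6 F 2 y y = 0) (h : hermForm 6 F 2 y x = 0) : lam x * lam y = lam y * lam x := by
  have h1 := conj_lam S hx hy
  rwa [h, zero_smul, add_zero, mul_inv_eq_iff_eq_mul] at h1

theorem iso3 (hF : Fintype.card F = 2 ^ 2) {u v w : Fin 6 → F} (h : Fr3 u v w) (a b c a' b' c' : F) :
    hermForm 6 F 2 (a • u + b • v + c • w) (a' • u + b' • v + c' • w) = 0 := by
  have hvu := herm_eq_zero_swap hF h.uv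
  have hwu := herm_eq_zero_swap hF h.uw
  have hwv := herm_eq_zero_swap hF h.vw
  simp only [herm_add_left, herm_add_right hF, herm_smul_left, herm_smul_right, h.uu, h.vv, h.ww,
    h.uv, h.uw, h.vw, hvu, hwu, hwv, mul_zero, add_zero]

/-- A commutative model of the lifts of a totally isotropic plane. -/
theorem exists_model (S : Sys hF π lam) {u v w : Fin 6 → F} (h : Fr3 u v w) :
    ∃ (A : Type u) (_ : CommGroup A) (ι : A →* K) (p : F → F → F → A), Function.Injective ι ∧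
      (∀ a b c, ι (p a b c) = lam (a • u + b • v + c • w)) ∧
      (∀ a b c, p a b c * p a b c = 1) ∧
      (∀ k a b c, k ≠ 0 → p (k * a) (k * b) (k * c) = p a b c) ∧
      (∀ ω : F, ω ^ 2 + ω + 1 = 0 → ∀ a b c a' b' c',
        (∀ r s : F, r * a + s * a' = 0 → r * b + s * b' = 0 → r * c + s * c' = 0 → r = 0 ∧ s = 0) →
        p a b c * p a' b' c' * p (a + a') (b + b') (c + c') *
          p (ω * a + a') (ω * b + b') (ω * c + c') *
          p (ω ^ 2 * a + a') (ω ^ 2 * b + b') (ω ^ 2 * c + c') = 1) := by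
  set P : Set K := {x | ∃ a b c : F, x = lam (a • u + b • v + c • w)} with hP
  have hPc : ∀ x ∈ P, ∀ y ∈ P, x * y = y * x := by
    rintro _ ⟨a, b, c, rfl⟩ _ ⟨a', b', c', rfl⟩
    exact comm_lam S (iso3 hF h _ _ _ _ _ _) (iso3 hF h _ _ _ _ _ _) (iso3 hF h _ _ _ _ _ _)
  obtain ⟨A, iA, ι, hι, hk⟩ := Cfsg.Agent.R01.BaerSplit.comm_lift P hPc
  have hk' : ∀ a b c : F, ∃ k, ι k = lam (a • u + b • v + c • w) := fun a b c => hk _ ⟨a, b, c, rfl⟩
  choose p hp using hk'
  refine ⟨A, iA, ι, p, hι, hp, ?_, ?_, ?_⟩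
  · intro a b c
    apply hι
    rw [map_mul, hp, map_one, S.sq _ (iso3 hF h _ _ _ _ _ _)]
  · intro k a b c hk0
    apply hι
    rw [hp, hp, ← S.smul k (a • u + b • v + c • w) hk0 (iso3 hF h _ _ _ _ _ _)]
    congr 1
    module
  · intro ω hω a b c a' b' c' hind
    apply hι
    rw [map_mul, map_mul, map_mul, map_mul, hp, hp, hp, hp, hp, map_one]
    have h1 := S.line (a • u + b • v + c • w) (a' • u + b' • v + c' • w) ω (iso3 hF h _ _ _ _ _ _)
      (iso3 hF h _ _ _ _ _ _) (iso3 hF h _ _ _ _ _ _) ?_ hω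
    · rw [show (a + a') • u + (b + b') • v + (c + c') • w =
          a • u + b • v + c • w + (a' • u + b' • v + c' • w) by module,
        show (ω * a + a') • u + (ω * b + b') • v + (ω * c + c') • w =
          ω • (a • u + b • v + c • w) + (a' • u + b' • v + c' • w) by module,
        show (ω ^ 2 * a + a') • u + (ω ^ 2 * b + b') • v + (ω ^ 2 * c + c') • w =
          ω ^ 2 • (a • u + b • v + c • w) + (a' • u + b' • v + c' • w) by module]
      exact h1
    · intro r s hrs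
      have h2 := h.ind (r * a + s * a') (r * b + s * b') (r * c + s * c') (by
        rw [← hrs]; module)
      exact hind r s h2.1 h2.2.1 h2.2.2

/-- the product over a hyperoval -/
def ov (lam : (Fin 6 → F) → K) (ω t : F) (u v w : Fin 6 → F) : K :=
  lam u * lam v * lam w * lam (u + v + t • w) * lam (u + ω • v + (t * ω ^ 2) • w) *
    lam (u + ω ^ 2 • v + (t * ω) • w)

/-- the product over a Baer subplane -/
def ba (lam : (Fin 6 → F) → K) (u v w : Fin 6 → F) : K :=
  lam u * lam v * lam w * lam (u + v) * lam (u + w) * lam (v + w) * lam (u + v + w)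

section Model

variable {A : Type*} [CommGroup A] (p : F → F → F → A)

/-- the hyperoval in the model -/
def mo (ω t : F) : A := p 1 0 0 * p 0 1 0 * p 0 0 1 * p 1 1 t * p 1 ω (t * ω ^ 2) * p 1 (ω ^ 2) (t * ω)

end Model

theorem e_uvw (u v w : Fin 6 → F) : (1 : F) • u + (0 : F) • v + (0 : F) • w = u ∧
    (0 : F) • u + (1 : F) • v + (0 : F) • w = v ∧ (0 : F) • u + (0 : F) • v + (1 : F) • w = w := by
  refine ⟨?_, ?_, ?_⟩ <;> module

theorem ov_model {u v w : Fin 6 → F} {A : Type*} [CommGroup A] {ι : A →* K} {p : F → F → F → A}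
    (hp : ∀ a b c, ι (p a b c) = lam (a • u + b • v + c • w)) (ω t : F) :
    ov lam ω t u v w = ι (mo p ω t) := by
  obtain ⟨e1, e2, e3⟩ := e_uvw u v w
  rw [mo, map_mul, map_mul, map_mul, map_mul, map_mul, hp, hp, hp, hp, hp, hp, e1, e2, e3, one_smul,
    one_smul]
  rfl

/-- the product of the three values is one -/
theorem ov_prod (S : Sys hF π lam) {u v w : Fin 6 → F} (h : Fr3 u v w) {ω : F} (hω : ω ^ 2 + ω + 1 = 0) :
    ov lam ω 1 u v w * ov lam ω ω u v w * ov lam ω (ω ^ 2) u v w = 1 := by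
  obtain ⟨A, iA, ι, p, hι, hp, hsq, hsm, hl⟩ := exists_model S h
  rw [ov_model hp, ov_model hp, ov_model hp, ← map_mul, ← map_mul, ← map_one ι]
  congr 1
  have h2 := two_eq_zero hF
  have h3 : ω ^ 3 = 1 := omega_cubed hω
  have h4 : ω ^ 4 = ω := by linear_combination ω * h3
  have hw0 : ω ≠ 0 := by rintro rfl; simp at hω
  have hw20 : ω ^ 2 ≠ 0 := pow_ne_zero 2 hw0
  -- the four lines
  have l0 := hl ω hω 0 1 0 0 0 1 (fun r s _ h1 h2 => by simpa using And.intro h1 h2)
  have l1 : ∀ c : F, p 1 0 0 * p 0 1 c * p 1 1 c * p ω 1 c * p (ω ^ 2) 1 c = 1 := by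
    intro c
    have := hl ω hω 1 0 0 0 1 c (fun r s h1 h2 _ => by simpa using And.intro h1 h2)
    simpa using this
  have s1 : ∀ c, p ω 1 c = p 1 (ω ^ 2) (ω ^ 2 * c) := by
    intro c
    rw [← hsm (ω ^ 2) ω 1 c hw20]
    congr 1
    · linear_combination h3
    · ring
  have s2 : ∀ c, p (ω ^ 2) 1 c = p 1 ω (ω * c) := by
    intro c
    rw [← hsm ω (ω ^ 2) 1 c hw0]
    congr 1
    · linear_combination h3
    · ring
  have m1 := l1 1
  have m2 := l1 ω
  have m3 := l1 (ω ^ 2)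
  rw [s1, s2] at m1 m2 m3
  have s3 : p 0 ω 1 = p 0 1 (ω ^ 2) := by
    rw [← hsm (ω ^ 2) 0 ω 1 hw20]
    congr 1
    · ring
    · linear_combination h3
    · ring
  have s4 : p 0 (ω ^ 2) 1 = p 0 1 ω := by
    rw [← hsm ω 0 (ω ^ 2) 1 hw0]
    congr 1
    · ring
    · linear_combination h3
    · ring
  simp only [mul_one, mul_zero, add_zero, zero_add] at l0 m1 m2 m3
  rw [s3, s4] at l0
  rw [show ω ^ 2 * ω = 1 by linear_combination h3, show ω * ω = ω ^ 2 by ring] at m2
  rw [show ω ^ 2 * ω ^ 2 = ω by linear_combination h4, show ω * ω ^ 2 = 1 by linear_combination h3] at m3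
  simp only [mo]
  rw [show (1 : F) * ω ^ 2 = ω ^ 2 by ring, show (1 : F) * ω = ω by ring, show ω * ω ^ 2 = 1 by linear_combination h3,
    show ω * ω = ω ^ 2 by ring, show ω ^ 2 * ω ^ 2 = ω by linear_combination h4,
    show ω ^ 2 * ω = 1 by linear_combination h3]
  have q1 := hsq 0 1 1
  have q2 := hsq 0 1 ω
  have q3 := hsq 0 1 (ω ^ 2)
  have q4 := hsq 0 1 0
  have q5 := hsq 0 0 1
  generalize p 1 0 0 = a at *
  generalize p 0 1 0 = b at *
  generalize p 0 0 1 = c at *
  generalize p 0 1 1 = x1 at *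
  generalize p 0 1 ω = x2 at *
  generalize p 0 1 (ω ^ 2) = x3 at *
  generalize p 1 1 1 = y1 at *
  generalize p 1 1 ω = y2 at *
  generalize p 1 1 (ω ^ 2) = y3 at *
  generalize p 1 ω 1 = z1 at *
  generalize p 1 ω ω = z2 at *
  generalize p 1 ω (ω ^ 2) = z3 at *
  generalize p 1 (ω ^ 2) 1 = t1 at *
  generalize p 1 (ω ^ 2) ω = t2 at *
  generalize p 1 (ω ^ 2) (ω ^ 2) = t3 at *
  clear hsq hsm hl l1 s1 s2 s3 s4 hp
  calc a * b * c * y1 * z3 * t2 * (a * b * c * y2 * z1 * t3) * (a * b * c * y3 * z2 * t1)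
      = a * b * c * y1 * z3 * t2 * (a * b * c * y2 * z1 * t3) * (a * b * c * y3 * z2 * t1) *
        ((x1 * x1) * (x2 * x2) * (x3 * x3)) := by rw [q1, q2, q3, mul_one, mul_one, mul_one]
    _ = (a * x1 * y1 * t3 * z2) * (a * x2 * y2 * t1 * z3) * (a * x3 * y3 * t2 * z1) *
        (b * c * x1 * x3 * x2) * ((b * b) * (c * c)) := by ac_rfl
    _ = 1 := by rw [m1, m2, m3, l0, q4, q5]; simp only [mul_one]

/-- the product over a Baer subplane is the product over a hyperoval -/
theorem ba_eq (S : Sys hF π lam) {u v w : Fin 6 → F} (h : Fr3 u v w) {ω : F} (hω : ω ^ 2 + ω + 1 = 0) :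
    ba lam u v w = ov lam ω 1 u v w := by
  obtain ⟨A, iA, ι, p, hι, hp, hsq, hsm, hl⟩ := exists_model S h
  have h2 := two_eq_zero hF
  have h3 : ω ^ 3 = 1 := omega_cubed hω
  have hw0 : ω ≠ 0 := by rintro rfl; simp at hω
  have hw20 : ω ^ 2 ≠ 0 := pow_ne_zero 2 hw0
  obtain ⟨e1, e2, e3⟩ := e_uvw u v w
  have e4 : ba lam u v w = ι (p 1 0 0 * p 0 1 0 * p 0 0 1 * p 1 1 0 * p 1 0 1 * p 0 1 1 * p 1 1 1) := by
    simp only [map_mul, hp, ba]
    rw [e1, e2, e3, show (1 : F) • u + (1 : F) • v + (0 : F) • w = u + v by module,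
      show (1 : F) • u + (0 : F) • v + (1 : F) • w = u + w by module,
      show (0 : F) • u + (1 : F) • v + (1 : F) • w = v + w by module,
      show (1 : F) • u + (1 : F) • v + (1 : F) • w = u + v + w by module]
  rw [e4, ov_model hp]
  congr 1
  have l0 := hl ω hω 1 1 0 1 0 1 (fun r s h1 h2 h5 => by
    constructor
    · simpa using h2
    · simpa using h5)
  simp only [mul_one, mul_zero, add_zero, zero_add] at l0
  rw [show (1 : F) + 1 = 0 by linear_combination h2, show ω + 1 = ω ^ 2 by linear_combination hω - ω ^ 2 * h2] at l0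
  have s1 : p (ω ^ 2) ω 1 = p 1 (ω ^ 2) ω := by
    rw [← hsm ω (ω ^ 2) ω 1 hw0]
    congr 1
    · linear_combination h3
    · ring
    · ring
  have s2 : p (ω ^ 2 + 1) (ω ^ 2) 1 = p 1 ω (ω ^ 2) := by
    rw [← hsm (ω ^ 2) (ω ^ 2 + 1) (ω ^ 2) 1 hw20]
    congr 1
    · linear_combination ω * h3 + hω - h2
    · linear_combination ω * h3
    · ring
  rw [s1, s2] at l0
  simp only [mo]
  rw [show (1 : F) * ω ^ 2 = ω ^ 2 by ring, show (1 : F) * ω = ω by ring]
  have q1 := hsq 1 (ω ^ 2) ω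
  have q2 := hsq 1 ω (ω ^ 2)
  generalize p 1 0 0 = a at *
  generalize p 0 1 0 = b at *
  generalize p 0 0 1 = c at *
  generalize p 0 1 1 = x1 at *
  generalize p 1 1 1 = y1 at *
  generalize p 1 1 0 = y2 at *
  generalize p 1 0 1 = y3 at *
  generalize p 1 ω (ω ^ 2) = z3 at *
  generalize p 1 (ω ^ 2) ω = t2 at *
  calc a * b * c * y2 * y3 * x1 * y1 = a * b * c * y2 * y3 * x1 * y1 * ((t2 * t2) * (z3 * z3)) := by
        rw [q1, q2, mul_one, mul_one]
    _ = (a * b * c * y1 * z3 * t2) * (y2 * y3 * x1 * t2 * z3) := by ac_rfl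
    _ = a * b * c * y1 * z3 * t2 := by rw [l0, mul_one]

/-- scaling the frame -/
theorem ov_smul (S : Sys hF π lam) {u v w : Fin 6 → F} (h : Fr3 u v w) {ω : F} (hω : ω ^ 2 + ω + 1 = 0)
    {a b c : F} (ha : a ≠ 0) (hb : b ≠ 0) (hc : c ≠ 0) (t : F) :
    ov lam ω t (a • u) (b • v) (c • w) = ov lam ω (t * (a * b * c)) u v w := by
  obtain ⟨A, iA, ι, p, hι, hp, hsq, hsm, hl⟩ := exists_model S h
  have h2 := two_eq_zero hF
  have h3 : ω ^ 3 = 1 := omega_cubed hω
  have h4 : ω ^ 4 = ω := by linear_combination ω * h3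
  have hw0 : ω ≠ 0 := by rintro rfl; simp at hω
  have ha3 : a ^ 3 = 1 := pow_three hF ha
  have e4 : ov lam ω t (a • u) (b • v) (c • w) = ι (p a 0 0 * p 0 b 0 * p 0 0 c * p a b (t * c) *
      p a (ω * b) (t * ω ^ 2 * c) * p a (ω ^ 2 * b) (t * ω * c)) := by
    simp only [map_mul, hp, ov]
    rw [show a • u + (0 : F) • v + (0 : F) • w = a • u by module,
      show (0 : F) • u + b • v + (0 : F) • w = b • v by module,
      show (0 : F) • u + (0 : F) • v + c • w = c • w by module]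
    simp only [smul_smul]
  rw [e4, ov_model hp]
  congr 1
  have n1 : p a 0 0 = p 1 0 0 := by
    rw [← hsm a 1 0 0 ha]; simp only [mul_one, mul_zero]
  have n2 : p 0 b 0 = p 0 1 0 := by
    rw [← hsm b 0 1 0 hb]; simp only [mul_one, mul_zero]
  have n3 : p 0 0 c = p 0 0 1 := by
    rw [← hsm c 0 0 1 hc]; simp only [mul_one, mul_zero]
  rw [n1, n2, n3]
  clear n1 n2 n3 e4
  simp only [mo]
  -- `β = b / a`, `γ = c / a`
  obtain ⟨β, hβ0, rfl⟩ : ∃ β, β ≠ 0 ∧ b = a * β :=
    ⟨a⁻¹ * b, mul_ne_zero (inv_ne_zero ha) hb, by rw [mul_inv_cancel_left₀ ha]⟩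
  obtain ⟨γ, rfl⟩ : ∃ γ, c = a * γ := ⟨a⁻¹ * c, by rw [mul_inv_cancel_left₀ ha]⟩
  have n4 : ∀ x y : F, p a (a * x) (a * y) = p 1 x y := by
    intro x y
    rw [← hsm a 1 x y ha, mul_one]
  have et : t * (a * (a * β) * (a * γ)) = t * (β * γ) := by linear_combination (t * β * γ) * ha3
  rw [et, show t * (a * γ) = a * (t * γ) by ring, show ω * (a * β) = a * (ω * β) by ring,
    show t * ω ^ 2 * (a * γ) = a * (t * ω ^ 2 * γ) by ring, show ω ^ 2 * (a * β) = a * (ω ^ 2 * β) by ring,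
    show t * ω * (a * γ) = a * (t * ω * γ) by ring, n4, n4, n4]
  have hβ : β = 1 ∨ β = ω ∨ β = ω ^ 2 := by
    have h5 := pow_three hF hβ0
    have : (β - 1) * ((β - ω) * (β - ω ^ 2)) = 0 := by
      linear_combination h5 + (β - β ^ 2) * hω + (β - 1) * h3
    rcases mul_eq_zero.1 this with h5 | h5
    · left; linear_combination h5
    · rcases mul_eq_zero.1 h5 with h5 | h5
      · right; left; linear_combination h5
      · right; right; linear_combination h5
  rcases hβ with rfl | rfl | rfl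
  · rw [mul_one, mul_one, show t * ω ^ 2 * γ = t * (1 * γ) * ω ^ 2 by ring,
      show t * ω * γ = t * (1 * γ) * ω by ring, one_mul]
  · rw [show β * β = β ^ 2 by ring, show β ^ 2 * β = 1 by linear_combination h3,
      show t * (β * γ) * β ^ 2 = t * γ by linear_combination (t * γ) * h3,
      show t * (β * γ) * β = t * β ^ 2 * γ by ring, show t * (β * γ) = t * β * γ by ring]
    ac_rfl
  · rw [show ω * ω ^ 2 = 1 by linear_combination h3, show ω ^ 2 * ω ^ 2 = ω by linear_combination h4,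
      show t * (ω ^ 2 * γ) * ω ^ 2 = t * ω * γ by linear_combination (t * γ) * h4,
      show t * (ω ^ 2 * γ) * ω = t * γ by linear_combination (t * γ) * h3,
      show t * (ω ^ 2 * γ) = t * ω ^ 2 * γ by ring]
    ac_rfl

/-- conjugation -/
theorem conj_ov (S : Sys hF π lam) {u v w : Fin 6 → F} (h : Fr3 u v w) (ω t : F) {k : K} {g : SU 6 F 2}
    (hk : π k = pr 6 F 2 g) :
    k * ov lam ω t u v w * k⁻¹ = ov lam ω t (act g u) (act g v) (act g w) := by
  have i1 : hermForm 6 F 2 (u + v + t • w) (u + v + t • w) = 0 := by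
    simpa using iso3 hF h 1 1 t 1 1 t
  have i2 : hermForm 6 F 2 (u + ω • v + (t * ω ^ 2) • w) (u + ω • v + (t * ω ^ 2) • w) = 0 := by
    simpa using iso3 hF h 1 ω (t * ω ^ 2) 1 ω (t * ω ^ 2)
  have i3 : hermForm 6 F 2 (u + ω ^ 2 • v + (t * ω) • w) (u + ω ^ 2 • v + (t * ω) • w) = 0 := by
    simpa using iso3 hF h 1 (ω ^ 2) (t * ω) 1 (ω ^ 2) (t * ω)
  have e1 := S.conj k g u h.uu hk
  have e2 := S.conj k g v h.vv hk
  have e3 := S.conj k g w h.ww hk
  have e4 := S.conj k g _ i1 hk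
  have e5 := S.conj k g _ i2 hk
  have e6 := S.conj k g _ i3 hk
  simp only [act_add, act_smul] at e4 e5 e6
  rw [ov, ov, ← e1, ← e2, ← e3, ← e4, ← e5, ← e6]
  group

/-- The product of the six transvections of a hyperoval is trivial. -/
theorem oval_T {u v w : Fin 6 → F} (h : Fr3 u v w) {ω : F} (hω : ω ^ 2 + ω + 1 = 0) {t : F}
    (ht : t ^ 3 = 1) (h1 : hermForm 6 F 2 (u + v + t • w) (u + v + t • w) = 0)
    (h2 : hermForm 6 F 2 (u + ω • v + (t * ω ^ 2) • w) (u + ω • v + (t * ω ^ 2) • w) = 0)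
    (h3 : hermForm 6 F 2 (u + ω ^ 2 • v + (t * ω) • w) (u + ω ^ 2 • v + (t * ω) • w) = 0) :
    T hF u h.uu * T hF v h.vv * T hF w h.ww * T hF (u + v + t • w) h1 *
      T hF (u + ω • v + (t * ω ^ 2) • w) h2 * T hF (u + ω ^ 2 • v + (t * ω) • w) h3 = 1 := by
  have hvu := herm_eq_zero_swap hF h.uv
  have hwu := herm_eq_zero_swap hF h.uw
  have hwv := herm_eq_zero_swap hF h.vw
  have hw3 : ω ^ 3 = 1 := omega_cubed hω
  have h2 := two_eq_zero hF
  apply ext_act
  intro x
  simp only [act_mul, act_one, act_T, herm_add_left, herm_smul_left, herm_add_right hF,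
    herm_smul_right, h.uu, h.vv, h.ww, h.uv, hvu, h.uw, hwu, h.vw, hwv, mul_zero, add_zero]
  funext i
  simp only [Pi.add_apply, Pi.smul_apply, smul_eq_mul]
  generalize hermForm 6 F 2 x u = p
  generalize hermForm 6 F 2 x v = q
  generalize hermForm 6 F 2 x w = r
  generalize u i = a
  generalize v i = b
  generalize w i = c
  linear_combination (p * a * 2) * h2 + (p * b + p * c * t) * hω + (q * a * ω) * hw3 + q * a * hω +
    (q * b * (ω ^ 3 + 2)) * hw3 + (q * b * 2) * h2 + (q * c * t * (ω ^ 2 + ω)) * hw3 +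
    (q * c * t) * hω + (r * a * t ^ 2 * ω) * hw3 + (r * a * t ^ 2) * hω +
    (r * b * t ^ 2 * (ω ^ 2 + ω)) * hw3 + (r * b * t ^ 2) * hω +
    (r * c * t ^ 3 * (ω ^ 3 + 2)) * hw3 + (3 * r * c) * ht + (r * c * 2) * h2

/-- the product over a hyperoval is in the kernel -/
theorem pi_ov (S : Sys hF π lam) {u v w : Fin 6 → F} (h : Fr3 u v w) {ω : F} (hω : ω ^ 2 + ω + 1 = 0)
    {t : F} (ht : t ^ 3 = 1) : π (ov lam ω t u v w) = 1 := by
  have h1 : hermForm 6 F 2 (u + v + t • w) (u + v + t • w) = 0 := by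
    simpa using iso3 hF h 1 1 t 1 1 t
  have h2 : hermForm 6 F 2 (u + ω • v + (t * ω ^ 2) • w) (u + ω • v + (t * ω ^ 2) • w) = 0 := by
    simpa using iso3 hF h 1 ω (t * ω ^ 2) 1 ω (t * ω ^ 2)
  have h3 : hermForm 6 F 2 (u + ω ^ 2 • v + (t * ω) • w) (u + ω ^ 2 • v + (t * ω) • w) = 0 := by
    simpa using iso3 hF h 1 (ω ^ 2) (t * ω) 1 (ω ^ 2) (t * ω)
  rw [ov, map_mul, map_mul, map_mul, map_mul, map_mul, S.pi u h.uu, S.pi v h.vv,
    S.pi w h.ww, S.pi _ h1, S.pi _ h2, S.pi _ h3,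
    tau_eq_pr hF h.uu, tau_eq_pr hF h.vv, tau_eq_pr hF h.ww,
    tau_eq_pr hF h1, tau_eq_pr hF h2, tau_eq_pr hF h3, ← map_mul, ← map_mul,
    ← map_mul, ← map_mul, ← map_mul, oval_T h hω ht h1 h2 h3, map_one]

/-- the square of the product over a hyperoval -/
theorem sq_ov (S : Sys hF π lam) {u v w : Fin 6 → F} (h : Fr3 u v w) (ω t : F) :
    ov lam ω t u v w * ov lam ω t u v w = 1 := by
  obtain ⟨A, iA, ι, p, hι, hp, hsq, -, -⟩ := exists_model S h
  rw [ov_model hp, ← map_mul, ← map_one ι]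
  congr 1
  simp only [mo]
  have q1 := hsq 1 0 0
  have q2 := hsq 0 1 0
  have q3 := hsq 0 0 1
  have q4 := hsq 1 1 t
  have q5 := hsq 1 ω (t * ω ^ 2)
  have q6 := hsq 1 (ω ^ 2) (t * ω)
  generalize p 1 0 0 = a at *
  generalize p 0 1 0 = b at *
  generalize p 0 0 1 = c at *
  generalize p 1 1 t = d at *
  generalize p 1 ω (t * ω ^ 2) = e at *
  generalize p 1 (ω ^ 2) (t * ω) = f at *
  calc a * b * c * d * e * f * (a * b * c * d * e * f)
      = (a * a) * (b * b) * (c * c) * (d * d) * (e * e) * (f * f) := by ac_rfl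
    _ = 1 := by rw [q1, q2, q3, q4, q5, q6]; simp only [mul_one]

/-- two frames -/
theorem ov_frames (S : Sys hF π lam) {u v w u' v' w' : Fin 6 → F} (h : Fr3 u v w) (h' : Fr3 u' v' w')
    {ω : F} (hω : ω ^ 2 + ω + 1 = 0) :
    ∃ d : F, d ≠ 0 ∧ ∀ t : F, t ^ 3 = 1 → ov lam ω t u v w = ov lam ω (t * d) u' v' w' := by
  obtain ⟨g, a, b, c, ha, hb, hc, hgu, hgv, hgw⟩ := trans_frames_SU hF h h'
  refine ⟨a * b * c, mul_ne_zero (mul_ne_zero ha hb) hc, fun t ht => ?_⟩
  obtain ⟨k, hk⟩ := S.surj (pr 6 F 2 g)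
  have h1 := conj_ov S h ω t hk
  rw [hgu, hgv, hgw, ov_smul S h' hω ha hb hc, S.cen _ (pi_ov S h hω ht), mul_inv_cancel_right] at h1
  exact h1

/-- `μ₃` -/
theorem mu_cases {ω : F} (hω : ω ^ 2 + ω + 1 = 0) {t : F} (ht : t ^ 3 = 1) : t = 1 ∨ t = ω ∨ t = ω ^ 2 := by
  have h3 : ω ^ 3 = 1 := omega_cubed hω
  have : (t - 1) * ((t - ω) * (t - ω ^ 2)) = 0 := by
    linear_combination ht + (t - t ^ 2) * hω + (t - 1) * h3
  rcases mul_eq_zero.1 this with h5 | h5
  · left; linear_combination h5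
  · rcases mul_eq_zero.1 h5 with h5 | h5
    · right; left; linear_combination h5
    · right; right; linear_combination h5

open Cfsg.Agent.KFacts.MulDef Cfsg.Agent.KFacts.OddLift.Frat Subgroup

/-- A perfect double cover below `π` in which the three products over the hyperovals are trivial does not exist. -/
theorem no_double (S : Sys hF π lam) {u v w : Fin 6 → F} (h : Fr3 u v w) {ω : F} (hω : ω ^ 2 + ω + 1 = 0)
    {L : Type u} [Group L] [Finite L] {q : K →* L} {π' : L →* PSU 6 F 2} {c : L}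
    (hq : Function.Surjective q) (hc : π'.comp q = π)
    (hk : ∀ t : F, t ^ 3 = 1 → q (ov lam ω t u v w) = 1) (hd : Dbl π' c) : False := by
  have hπ : ∀ x, π' (q x) = π x := fun x => DFunLike.congr_fun hc x
  have S' : Cfsg.Agent.R01.Lam.LamSys hF π' c (fun x => q (lam x)) :=
    { ext := ⟨hd.surj, hd.sq, hd.ne, hd.ker, fun x => (hd.cen x).symm⟩
      pi := fun x hx => by rw [hπ, S.pi x hx]
      conj := by
        intro d g x hx hdg
        obtain ⟨k, rfl⟩ := hq d
        rw [hπ] at hdg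
        rw [← map_mul, ← map_inv, ← map_mul, S.conj k g x hx hdg]
      zero := by rw [S.zero, map_one]
      smul := fun a x ha hx => by rw [S.smul a x ha hx]
      sq := fun x hx => by rw [← map_mul, S.sq x hx, map_one]
      line := fun a b ω' ha hb hab hind hω' => by
        rw [← map_mul, ← map_mul, ← map_mul, ← map_mul, S.line a b ω' ha hb hab hind hω', map_one] }
  obtain ⟨u', v', w', hu, hv, hw, huv, huw, hvw, hind, hB⟩ := Cfsg.Agent.R01.BaerSplit.exists_baer S' hd.perf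
  have h' : Fr3 u' v' w' := ⟨hu, hv, hw, huv, huw, hvw, hind⟩
  have h1 : q (ba lam u' v' w') = c := by
    rw [← hB, ba]
    simp only [map_mul]
  obtain ⟨d, hd0, hdd⟩ := ov_frames S h' h hω
  rw [ba_eq S h' hω, hdd 1 (one_pow 3), hk _ (by rw [one_mul]; exact pow_three hF hd0)] at h1
  exact hd.ne h1.symm

/-- The kernel is generated by the products over the hyperovals of one plane. -/
theorem ker_eq [Finite K] (S : Sys hF π lam) (hperf : commutator K = ⊤) (hp : IsPGroup 2 π.ker)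
    {u v w : Fin 6 → F} (h : Fr3 u v w) {ω : F} (hω : ω ^ 2 + ω + 1 = 0) {N : Subgroup K} (hN : N ≤ π.ker)
    (hk : ∀ t : F, t ^ 3 = 1 → ov lam ω t u v w ∈ N) : π.ker = N := by
  refine Cfsg.Agent.KFacts.OddLift.Frat.ker_eq hperf S.surj ?_ hp hN ?_
  · intro z hz
    rw [mem_center_iff]
    exact S.cen z hz
  · intro L _ _ q π' c hq hc hNq hd
    exact no_double S h hω hq hc (fun t ht => hNq (hk t ht)) hd

/-- the three values generate a four group -/
theorem ov_third (S : Sys hF π lam) {u v w : Fin 6 → F} (h : Fr3 u v w) {ω : F} (hω : ω ^ 2 + ω + 1 = 0) :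
    ov lam ω 1 u v w * ov lam ω ω u v w = ov lam ω (ω ^ 2) u v w ∧
      ov lam ω ω u v w * ov lam ω 1 u v w = ov lam ω (ω ^ 2) u v w := by
  have h1 := ov_prod S h hω
  have h2 := sq_ov S h ω (ω ^ 2)
  have h3 : ov lam ω 1 u v w * ov lam ω ω u v w = ov lam ω (ω ^ 2) u v w := by
    rw [eq_inv_of_mul_eq_one_left h1, inv_eq_of_mul_eq_one_left h2]
  refine ⟨h3, ?_⟩
  rw [← S.cen _ (pi_ov S h hω (t := ω) (omega_cubed hω)), h3]

/-- **The 2-part of the multiplier of `PSU 6 F 2`**: elementary abelian of order at most four. -/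
theorem card_ker [Finite K] (S : Sys hF π lam) (hperf : commutator K = ⊤) (hp : IsPGroup 2 π.ker) :
    (∀ z ∈ π.ker, z * z = 1) ∧ Nat.card π.ker ≤ 4 := by
  obtain ⟨ω, hω⟩ := exists_omega hF
  have h := fr3_std (F := F) hF
  have h3 : ω ^ 3 = 1 := omega_cubed hω
  obtain ⟨e1, e2⟩ := ov_third S h hω
  have s1 := sq_ov S h ω 1
  have s2 := sq_ov S h ω ω
  have hker : π.ker = klein s1 s2 e1 e2 := by
    apply ker_eq S hperf hp h hω
    · intro g hg
      rcases mem_klein.1 hg with rfl | rfl | rfl | rfl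
      · exact one_mem _
      · exact pi_ov S h hω (one_pow 3)
      · exact pi_ov S h hω h3
      · exact pi_ov S h hω (by rw [← pow_mul, mul_comm, pow_mul, h3, one_pow])
    · intro t ht
      rw [mem_klein]
      rcases mu_cases hω ht with rfl | rfl | rfl
      · exact Or.inr (Or.inl rfl)
      · exact Or.inr (Or.inr (Or.inl rfl))
      · exact Or.inr (Or.inr (Or.inr rfl))
  rw [hker]
  exact ⟨fun z hz => klein_sq hz, card_klein_le⟩

/-- If the kernel has order four then the three products are different. -/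
theorem ov_injective [Finite K] (S : Sys hF π lam) (hperf : commutator K = ⊤) (hp : IsPGroup 2 π.ker)
    (h4 : 2 < Nat.card π.ker) {u v w : Fin 6 → F} (h : Fr3 u v w) {ω : F} (hω : ω ^ 2 + ω + 1 = 0)
    {s t : F} (hs : s ^ 3 = 1) (ht : t ^ 3 = 1) (hst : ov lam ω s u v w = ov lam ω t u v w) : s = t := by
  by_contra hne
  have h3 : ω ^ 3 = 1 := omega_cubed hω
  obtain ⟨e1, e2⟩ := ov_third S h hω
  have s1 := sq_ov S h ω 1
  have s2 := sq_ov S h ω ω
  have s3 := sq_ov S h ω (ω ^ 2)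
  have p1 := pi_ov S h hω (one_pow 3)
  have p2 := pi_ov S h hω h3
  have p3 := pi_ov S h hω (t := ω ^ 2) (by rw [← pow_mul, mul_comm, pow_mul, h3, one_pow])
  have f1 : ov lam ω 1 u v w * ov lam ω (ω ^ 2) u v w = ov lam ω ω u v w := by
    rw [← e1, ← mul_assoc, s1, one_mul]
  have f2 : ov lam ω ω u v w * ov lam ω (ω ^ 2) u v w = ov lam ω 1 u v w := by
    rw [← e2, ← mul_assoc, s2, one_mul]
  have hall0 : ∀ P : F → Prop, P 1 → P ω → P (ω ^ 2) → ∀ t : F, t ^ 3 = 1 → P t := by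
    intro P a b c t ht
    rcases mu_cases hω ht with rfl | rfl | rfl
    · exact a
    · exact b
    · exact c
  -- all values lie in a group of order two
  obtain ⟨x, hx, hπx, hall⟩ : ∃ x : K, x * x = 1 ∧ π x = 1 ∧ ∀ t : F, t ^ 3 = 1 →
      ov lam ω t u v w = 1 ∨ ov lam ω t u v w = x := by
    have c12 : ov lam ω 1 u v w = ov lam ω ω u v w → ∃ x : K, x * x = 1 ∧ π x = 1 ∧ ∀ t : F, t ^ 3 = 1 →
        ov lam ω t u v w = 1 ∨ ov lam ω t u v w = x := fun h12 =>
      ⟨_, s2, p2, hall0 _ (Or.inr h12) (Or.inr rfl) (Or.inl (by rw [← e1, h12, s2]))⟩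
    have c13 : ov lam ω 1 u v w = ov lam ω (ω ^ 2) u v w → ∃ x : K, x * x = 1 ∧ π x = 1 ∧
        ∀ t : F, t ^ 3 = 1 → ov lam ω t u v w = 1 ∨ ov lam ω t u v w = x := fun h13 =>
      ⟨_, s3, p3, hall0 _ (Or.inr h13) (Or.inl (by rw [← f1, h13, s3])) (Or.inr rfl)⟩
    have c23 : ov lam ω ω u v w = ov lam ω (ω ^ 2) u v w → ∃ x : K, x * x = 1 ∧ π x = 1 ∧
        ∀ t : F, t ^ 3 = 1 → ov lam ω t u v w = 1 ∨ ov lam ω t u v w = x := fun h23 =>
      ⟨_, s3, p3, hall0 _ (Or.inl (by rw [← f2, h23, s3])) (Or.inr h23) (Or.inr rfl)⟩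
    rcases mu_cases hω hs with hs1 | hs1 | hs1 <;> rcases mu_cases hω ht with ht1 | ht1 | ht1 <;>
      rw [hs1, ht1] at hst
    · exact absurd (hs1.trans ht1.symm) hne
    · exact c12 hst
    · exact c13 hst
    · exact c12 hst.symm
    · exact absurd (hs1.trans ht1.symm) hne
    · exact c23 hst
    · exact c13 hst.symm
    · exact c23 hst.symm
    · exact absurd (hs1.trans ht1.symm) hne
  have hker : π.ker = zpowers x := by
    apply ker_eq S hperf hp h hω
    · rw [zpowers_le]; exact hπx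
    · intro t ht
      rcases hall t ht with h1 | h1 <;> rw [h1]
      · exact one_mem _
      · exact mem_zpowers x
  rw [hker, Nat.card_zpowers] at h4
  have := orderOf_le_of_pow_eq_one (x := x) (n := 2) (by norm_num) (by rw [pow_two, hx])
  omega

/-- The 2-part of the multiplier, for a perfect group with a central 2-subgroup. -/
theorem card_le [Finite K] (hK : commutator K = ⊤) (Z : Subgroup K) [Z.Normal] (hZ : Z ≤ center K)
    (h2 : IsPGroup 2 Z) {F : Type*} [Field F] [Fintype F] (hF : Fintype.card F = 4)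
    (e : K ⧸ Z ≃* PSU 6 F 2) : (∀ z ∈ Z, z * z = 1) ∧ Nat.card Z ≤ 4 := by
  let f : K →* PSU 6 F 2 := e.toMonoidHom.comp (QuotientGroup.mk' Z)
  have hk : f.ker = Z := by
    ext x
    rw [MonoidHom.mem_ker]
    show e (QuotientGroup.mk' Z x) = 1 ↔ _
    rw [map_eq_one_iff e e.injective]
    exact QuotientGroup.eq_one_iff x
  have hs : Function.Surjective f := e.surjective.comp (QuotientGroup.mk'_surjective Z)
  have hcen : ∀ z, f z = 1 → ∀ c : K, c * z = z * c := fun z hz =>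
    mem_center_iff.1 (hZ (by rw [← hk]; exact hz))
  have hp : IsPGroup 2 f.ker := by rw [hk]; exact h2
  obtain ⟨lam, S⟩ := exists_lamK (hF.trans (by norm_num)) hs hcen hp
  have := card_ker S hK hp
  rwa [hk] at this

end Cfsg.Agent.OddHalf.D9.RankTwo.LamOval
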