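import Cfsg.Agent.BabyU.Out

/-!
# Two commuting involutory automorphisms of `²E₆(2)`: one of `φ`, `ψ`, `φ ψ` is inner
-/

set_option autoImplicit false

namespace Cfsg.Agent.OddHalf.D9.RankTwo.OutTwo

open Cfsg Cfsg.Agent.TwoESix Cfsg.Agent.TwoESix.Cox10 Cfsg.Agent.TwoESix.Lift Cfsg.Agent.TwoESix.Cover
open Cfsg.Agent.R01.Lifts Cfsg.Agent.BabyU.OutCount Cfsg.Agent.BabyU.OutFree Cfsg.Agent.BabyU.Out

variable {F : Type*} [Field F] [Fintype F] {hF : Fintype.card F = 2 ^ 2}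
variable {E : Type*} [Group E]

theorem P6_comp : ∀ k l : Fin 6, ∃ m : Fin 6, (∀ i, P6 k (P6 l i) = P6 m i) ∧
    ((k = 1 ∨ k = 2 ∨ k = 3) → (l = 1 ∨ l = 2 ∨ l = 3) → (m = 0 ∨ m = 4 ∨ m = 5)) := by decide

theorem P6_sq : ∀ k : Fin 6, (k = 4 ∨ k = 5) → ∃ m : Fin 6, m ≠ 0 ∧ ∀ i, P6 k (P6 k i) = P6 m i := by decide

/-- `φ` has type `k` -/
def Ty (f : Fin 10 → E) (φ : MulAut E) (k : Fin 6) : Prop := ∃ x : E, ∀ i, x * φ (f i) * x⁻¹ = f (P6 k i)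

theorem Ty.mul {f : Fin 10 → E} {φ ψ : MulAut E} {k l m : Fin 6} (h : Ty f φ k) (h' : Ty f ψ l)
    (hm : ∀ i, P6 k (P6 l i) = P6 m i) : Ty f (φ * ψ) m := by
  obtain ⟨x, hx⟩ := h
  obtain ⟨y, hy⟩ := h'
  refine ⟨x * φ y, fun i => ?_⟩
  rw [← hm i, ← hx (P6 l i), ← hy i, map_mul, map_mul, map_inv, MulAut.mul_apply]
  group

theorem Ty.inner {f : Fin 10 → E} (hf : GG f) {φ : MulAut E} (h : Ty f φ 0) : ∃ x, φ = MulAut.conj x := by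
  obtain ⟨x, hx⟩ := h
  refine ⟨x⁻¹, ?_⟩
  have h2 : ((MulAut.conj x * φ : MulAut E) : E ≃* E).toMonoidHom = MonoidHom.id E := by
    refine MonoidHom.eq_of_eqOn_dense hf.2 ?_
    rintro _ ⟨i, rfl⟩
    exact hx i
  have h3 : MulAut.conj x * φ = 1 := by
    ext g
    exact DFunLike.congr_fun h2 g
  rw [map_inv]
  exact (inv_eq_of_mul_eq_one_right h3).symm

theorem out_of [Finite HB] {M : Type*} [Group M] (hcov : IsNonsplitDoubleCover M E)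
    (hcard : Nat.card HB ≤ Nat.card E) (hE : ∃ a b : E, ¬ Commute a b) {R : Set E} (H : Hyp hF R)
    {f : Fin 10 → E} (hf : GG f) (hfR : ∀ i, f i ∈ R) (hinv : ∀ (φ : MulAut E), ∀ r ∈ R, φ r ∈ R)
    (φ ψ : MulAut E) (h1 : φ * φ = 1) (h2 : ψ * ψ = 1) (h12 : φ * ψ = ψ * φ) :
    (∃ x, φ = MulAut.conj x) ∨ (∃ x, ψ = MulAut.conj x) ∨ ∃ x, φ * ψ = MulAut.conj x := by
  have hty : ∀ φ : MulAut E, ∃ k, Ty f φ k := by
    intro φ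
    obtain ⟨x, k, h⟩ := auto hcov hcard hE H hf hfR φ (hinv φ)
    exact ⟨k, x, h⟩
  have hsq : ∀ (φ : MulAut E) (k : Fin 6), φ * φ = 1 → Ty f φ k → ¬ (k = 4 ∨ k = 5) := by
    intro φ k h h' hk
    obtain ⟨m, hm0, hm⟩ := P6_sq k hk
    obtain ⟨x, hx⟩ := h'.mul h' hm
    rw [h] at hx
    exact not_inner hcov hcard hf hm0 x hx
  obtain ⟨k, hk⟩ := hty φ
  obtain ⟨l, hl⟩ := hty ψ
  have hk' := hsq φ k h1 hk
  have hl' := hsq ψ l h2 hl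
  by_cases hk0 : k = 0
  · subst hk0
    exact Or.inl (hk.inner hf)
  by_cases hl0 : l = 0
  · subst hl0
    exact Or.inr (Or.inl (hl.inner hf))
  right; right
  obtain ⟨m, hm, hm'⟩ := P6_comp k l
  have hkm := hk.mul hl hm
  have h3 := hsq (φ * ψ) m (by rw [← mul_assoc, mul_assoc φ ψ φ, ← h12, ← mul_assoc, h1, one_mul, h2]) hkm
  have c3 : ∀ k : Fin 6, k ≠ 0 → ¬ (k = 4 ∨ k = 5) → k = 1 ∨ k = 2 ∨ k = 3 := by decide
  rcases hm' (c3 k hk0 hk') (c3 l hl0 hl') with rfl | h4 | h4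
  · exact hkm.inner hf
  · exact absurd (Or.inl h4) h3
  · exact absurd (Or.inr h4) h3

end Cfsg.Agent.OddHalf.D9.RankTwo.OutTwo
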