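import Cfsg.Agent.OddHalf.D9.RankTwo.RowsD4
import Cfsg.Agent.OddHalf.D9.GamO8
import Cfsg.Agent.KFacts.Mult.OEightInner

/-!
# ODD half, D4: the row `2².Ω₈⁺(2)`
-/

set_option autoImplicit false

namespace Cfsg.Agent.OddHalf.D9.RankTwo.RowsO

open Subgroup Cfsg
open Cfsg.Agent.OddHalf.Iface
open Cfsg.Agent.OddHalf.D9.RankTwo.Core
open Cfsg.Agent.OddHalf.D9.RankTwo.RowsD4
open Cfsg.Agent.OddHalf.D9.Gamma
open Cfsg.Agent.OddHalf.D9.Cut
open Cfsg.Agent.OddHalf.D4.Cut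

universe u

theorem inner_o82 : InnerFor.{u} (fun X _ => XO82 X) :=
  fun _ _ _ hp h4 hX => Cfsg.Agent.KFacts.Mult.OEightInner.center_inner hp h4 hX

/-- `Ω₈⁺(2)` has no tied pair of involutions -/
theorem not_tied_o82 {X : Type u} [Group X] (h : XO82 X) : ¬ Tied X := by
  obtain ⟨F, i1, i2, hF, ⟨e⟩⟩ := h
  exact fun hX => GamO8.not_tied hF (Tied.of_equiv e hX)

/-- **`2².Ω₈⁺(2)`** -/
theorem v_o82 (T : MainTI.{u}) (R : Core.Rows) : RowA.{u} (fun K _ => Vier (fun X _ => XO82 X) K) :=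
  v_row T R (fun _ _ h => not_tied_o82 h) inner_o82

end Cfsg.Agent.OddHalf.D9.RankTwo.RowsO
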