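import Cfsg.Agent.OddHalf.D9.RankTwo.RowsD4
import Cfsg.Agent.OddHalf.D9.GamE6Inst
import Cfsg.Agent.KFacts.Mult.TwESixInner

/-!
# ODD half, D4: the row `2².²E₆(2)`
-/

set_option autoImplicit false

namespace Cfsg.Agent.OddHalf.D9.RankTwo.RowsTwE

open Subgroup Cfsg Cfsg.Lie Cfsg.Agent.TwoESix Cfsg.Agent.BabyU
open Cfsg.Agent.OddHalf.Iface
open Cfsg.Agent.OddHalf.D9.RankTwo.Core
open Cfsg.Agent.OddHalf.D9.RankTwo.RowsD4
open Cfsg.Agent.OddHalf.D9.Gamma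
open Cfsg.Agent.OddHalf.D9.Cut
open Cfsg.Agent.OddHalf.D4.Cut

universe u

theorem inner_2e62 : InnerFor.{u} (fun X _ => X2E62 X) :=
  fun _ _ _ hp h4 hX => Cfsg.Agent.KFacts.Mult.TwESixInner.center_inner hp h4 hX

/-- `²E₆(2)` has no tied pair of involutions -/
theorem not_tied_2e62 {X : Type u} [Group X] (h : X2E62 X) : ¬ Tied X := by
  obtain ⟨F, i1, i2, hF, ⟨e⟩⟩ := h
  exact fun hX => GamE6Inst.not_tied hF (Tied.of_equiv e hX)

/-- **`2².²E₆(2)`** -/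
theorem v_2e62 (T : MainTI.{u}) (R : Core.Rows) : RowA.{u} (fun K _ => Vier (fun X _ => X2E62 X) K) :=
  v_row T R (fun _ _ h => not_tied_2e62 h) inner_2e62

end Cfsg.Agent.OddHalf.D9.RankTwo.RowsTwE
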