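import Cfsg.Agent.OddHalf.D9.RankTwo.Core

/-!
# Standard subgroups with centre of rank two in a counterexample

`std_false`: LEMMA W with the theorem on weakly closed TI subgroups, for `Z = Ω₁(Z(K))` of order four.
-/

set_option autoImplicit false

namespace Cfsg.Agent.OddHalf.D9.RankTwo.StdFalse

open Subgroup Cfsg
open scoped commutatorElement
open Cfsg.Agent.OddHalf.Iface
open Cfsg.Agent.OddHalf.D9.LemmaW
open Cfsg.Agent.OddHalf.D9.RankTwo.Core

universe u

/-- `Ω₁(Z(K))` as a subgroup of `G`. -/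
def omg {G : Type*} [Group G] (K : Subgroup G) : Subgroup G where
  carrier := {x | x ∈ K ∧ (∀ k ∈ K, k * x = x * k) ∧ x * x = 1}
  one_mem' := ⟨K.one_mem, fun k _ => by group, by group⟩
  mul_mem' := by
    rintro x y ⟨hx, hx1, hx2⟩ ⟨hy, hy1, hy2⟩
    refine ⟨K.mul_mem hx hy, fun k hk => ?_, ?_⟩
    · rw [← mul_assoc, hx1 k hk, mul_assoc, hy1 k hk, mul_assoc]
    · calc x * y * (x * y) = x * (y * x) * y := by group
        _ = x * (x * y) * y := by rw [hx1 y hy]
        _ = (x * x) * (y * y) := by group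
        _ = 1 := by rw [hx2, hy2, one_mul]
  inv_mem' := by
    rintro x ⟨hx, hx1, hx2⟩
    refine ⟨K.inv_mem hx, fun k hk => ?_, ?_⟩
    · calc k * x⁻¹ = x⁻¹ * (x * k) * x⁻¹ := by group
        _ = x⁻¹ * (k * x) * x⁻¹ := by rw [hx1 k hk]
        _ = x⁻¹ * k := by group
    · rw [← mul_inv_rev, hx2, inv_one]

/-- no four-group `U` of automorphisms of `K` centralizing `Ω₁(Z(K))` with `C_K(u) ≤ N(U)` for `u ∈ U#` -/
def GammaFor {G : Type*} [Group G] (K : Subgroup G) : Prop :=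
  ∀ U : Subgroup G, (∀ u ∈ U, u * u = 1) → Nat.card U = 4 →
    U ≤ Subgroup.normalizer (K : Set G) → U ⊓ Subgroup.centralizer (K : Set G) = ⊥ →
    (∀ u ∈ U, ∀ z ∈ omg K, u * z = z * u) →
    (∀ u ∈ U, u ≠ 1 → ∀ k ∈ K, k * u = u * k → k ∈ Subgroup.normalizer (U : Set G)) → False

/-- LEMMA W: the TI subgroup theorem for `G` is used only in the form `hTI`. -/
theorem standard_false {G : Type u} [Group G] [Finite G]
    (hTI : ∀ A : Subgroup G, IsElementaryAbelian 2 A → A ≠ ⊥ →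
      (∀ a ∈ A, a ≠ 1 → ∀ g : G, A.map (MulAut.conj g).toMonoidHom ≤
        Subgroup.centralizer ({a} : Set G) → A.map (MulAut.conj g).toMonoidHom = A) → False)
    {K Z : Subgroup G} (hK : Cfsg.IsStandardSubgroup K)
    (hZc : Z ≤ Subgroup.centralizer (K : Set G))
    (hZn : Subgroup.normalizer (K : Set G) ≤ Subgroup.normalizer (Z : Set G))
    (hel : ∀ x ∈ Z, x * x = 1) (hcard : Nat.card Z = 4)
    (hGamma : ∀ U : Subgroup G, (∀ u ∈ U, u * u = 1) → Nat.card U = 4 →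
      U ≤ Subgroup.normalizer (K : Set G) → U ⊓ Subgroup.centralizer (K : Set G) = ⊥ →
      (∀ u ∈ U, ∀ z ∈ Z, u * z = z * u) →
      (∀ u ∈ U, u ≠ 1 → ∀ k ∈ K, k * u = u * k → k ∈ Subgroup.normalizer (U : Set G)) → False) :
    False := by
  have hF := four_of_standard hK hZc hZn hel hcard
  apply hTI Z
  · refine ⟨⟨⟨fun a b => ?_⟩⟩, fun a ha => by rw [pow_two]; exact hF.el a ha⟩
    ext
    have ha := hF.el a a.2
    have hb := hF.el b b.2
    have hab := hF.el (a * b) (Z.mul_mem a.2 b.2)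
    show (a : G) * b = b * a
    have hai : (a : G)⁻¹ = a := inv_eq_of_mul_eq_one_left ha
    have hbi : (b : G)⁻¹ = b := inv_eq_of_mul_eq_one_left hb
    have habi : ((a : G) * b)⁻¹ = a * b := inv_eq_of_mul_eq_one_left hab
    calc (a : G) * b = ((a : G) * b)⁻¹ := habi.symm
      _ = (b : G)⁻¹ * (a : G)⁻¹ := mul_inv_rev _ _
      _ = b * a := by rw [hai, hbi]
  · rintro rfl
    simp at hcard
  intro a ha ha1 g hg
  by_contra hne
  obtain ⟨hZU, hcomm⟩ := hF.alt ha ha1 hg hne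
  have hU := hF.conj g
  have hord : orderOf a = 2 := orderOf_eq_prime (by rw [pow_two]; exact hel a ha) ha1
  have hUN : Z.map (MulAut.conj g).toMonoidHom ≤ Subgroup.normalizer (K : Set G) := by
    intro u hu
    apply (Cfsg.Agent.S1754.result K hK a hord (hZc ha)).1
    rw [Subgroup.mem_centralizer_singleton_iff]
    exact hcomm u hu a ha
  refine hGamma _ hU.el hU.card hUN ?_ hcomm ?_
  · rw [eq_bot_iff]
    rintro u ⟨hu1, hu2⟩
    rw [Subgroup.mem_bot]
    by_contra hne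
    obtain ⟨z, hz, hzu⟩ := mem_conj.mp hu1
    -- `u ∈ C(K) ∩ C(K)^g` has even order, so `g` normalises `K`, `Z`
    have hg : g ∈ Subgroup.normalizer (Subgroup.centralizer (K : Set G) : Set G) := by
      by_contra hg
      have hodd := hK.2.1.2 g hg
      have hmem : u ∈ Subgroup.centralizer (K : Set G) ⊓
          (Subgroup.centralizer (K : Set G)).map (MulAut.conj g).toMonoidHom :=
        ⟨hu2, mem_conj.mpr ⟨z, hZc hz, hzu⟩⟩
      have hou : orderOf u = 2 :=
        orderOf_eq_prime (by rw [pow_two]; exact hU.el u hu1) hne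
      have hdvd : 2 ∣ Nat.card ↥(Subgroup.centralizer (K : Set G) ⊓
          (Subgroup.centralizer (K : Set G)).map (MulAut.conj g).toMonoidHom) := by
        rw [← hou]
        exact Subgroup.orderOf_dvd_natCard _ hmem
      exact (Nat.not_even_iff_odd.mpr hodd) (even_iff_two_dvd.mpr hdvd)
    rw [← hK.2.2.2] at hg
    have hZZ := conj_eq_of_mem_normalizer (hZn hg)
    rw [hZZ] at hZU hu1
    have : u ∈ (⊥ : Subgroup G) := by
      rw [← hZU]
      exact ⟨hu1, hu1⟩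
    exact hne (Subgroup.mem_bot.mp this)
  · intro u hu hu1 k _ hku
    apply hU.cent u hu hu1
    rw [Subgroup.mem_centralizer_singleton_iff]
    exact hku

theorem omg_conj {G : Type*} [Group G] {K : Subgroup G} {n x : G} (hn : n ∈ normalizer (K : Set G))
    (hx : x ∈ omg K) : n * x * n⁻¹ ∈ omg K := by
  obtain ⟨h1, h2, h3⟩ := hx
  refine ⟨(mem_normalizer_iff.mp hn x).mp h1, fun k hk => ?_, ?_⟩
  · have hk' : n⁻¹ * k * n ∈ K := by
      have := (mem_normalizer_iff.mp (inv_mem hn) k).mp hk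
      rwa [inv_inv] at this
    have h4 := h2 _ hk'
    calc k * (n * x * n⁻¹) = n * ((n⁻¹ * k * n) * x) * n⁻¹ := by group
      _ = n * (x * (n⁻¹ * k * n)) * n⁻¹ := by rw [h4]
      _ = n * x * n⁻¹ * k := by group
  · calc n * x * n⁻¹ * (n * x * n⁻¹) = n * (x * x) * n⁻¹ := by group
      _ = 1 := by rw [h3]; group

theorem normalizer_le {G : Type*} [Group G] (K : Subgroup G) :
    normalizer (K : Set G) ≤ normalizer (omg K : Set G) := by
  intro n hn
  rw [mem_normalizer_iff]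
  intro x
  constructor
  · exact fun hx => omg_conj hn hx
  · intro hx
    have := omg_conj (inv_mem hn) hx
    have e1 : n⁻¹ * (n * x * n⁻¹) * n⁻¹⁻¹ = x := by group
    rwa [e1] at this

/-- **A standard subgroup `K` with `|Ω₁(Z(K))| = 4` and (GAMMA) is impossible in a counterexample.** -/
theorem std_false {G : Type u} [Group G] (T : MainTI.{u}) (R : Rows) (C : Ctx G) {K : Subgroup G}
    (hK : IsStandardSubgroup K) (hcard : Nat.card (omg K) = 4) (hGamma : GammaFor K) : False := by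
  have := C.fin
  refine standard_false (fun A hA hA1 hwc => not_weaklyClosed T R C A hA hA1 hwc) hK (Z := omg K) ?_
    (normalizer_le K) (fun x hx => hx.2.2) hcard hGamma
  intro x hx
  rw [mem_centralizer_iff]
  exact fun k hk => hx.2.1 k hk

/-! ### Comparison with the centre of `K` -/

theorem mem_omg_iff {G : Type*} [Group G] {K : Subgroup G} {x : G} :
    x ∈ omg K ↔ ∃ h : x ∈ K, (⟨x, h⟩ : K) ∈ center ↥K ∧ x * x = 1 := by
  constructor
  · rintro ⟨h1, h2, h3⟩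
    exact ⟨h1, mem_center_iff.mpr fun k => Subtype.ext (h2 k k.2), h3⟩
  · rintro ⟨h1, h2, h3⟩
    exact ⟨h1, fun k hk => congrArg Subtype.val (mem_center_iff.mp h2 ⟨k, hk⟩), h3⟩

/-- `|Ω₁(Z(K))|` computed in `K`. -/
theorem card_omg {G : Type*} [Group G] (K : Subgroup G) :
    Nat.card (omg K) = Nat.card {z : center ↥K // z * z = 1} := by
  refine Nat.card_congr ⟨fun x => ⟨⟨⟨x, (mem_omg_iff.mp x.2).1⟩, (mem_omg_iff.mp x.2).2.1⟩, ?_⟩,
    fun z => ⟨((z : center ↥K) : K), mem_omg_iff.mpr ⟨((z : center ↥K) : K).2, (z : center ↥K).2, ?_⟩⟩,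
    fun x => rfl, fun x => rfl⟩
  · exact Subtype.ext (Subtype.ext (mem_omg_iff.mp x.2).2.2)
  · exact congrArg (fun y : center ↥K => ((y : K) : G)) z.2

/-- A four-group `U` of inner automorphisms: the data on two generators. -/
theorem gamma_of_inner {G : Type*} [Group G] [Finite G] {K : Subgroup G}
    (hin : ∀ u ∈ normalizer (K : Set G), u * u = 1 → (∀ z ∈ omg K, u * z = z * u) →
      ∃ k ∈ K, ∃ c ∈ centralizer (K : Set G), u = k * c)
    (hG : ∀ k1 k2 : K, k1 * k1 ∈ center ↥K → k2 * k2 ∈ center ↥K → ⁅k1, k2⁆ ∈ center ↥K →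
      k1 ∉ center ↥K → k2 ∉ center ↥K → k1 * k2 ∉ center ↥K →
      ∃ x : K, x * k1 = k1 * x ∧ ⁅x, k2⁆ ∈ center ↥K ∧ ⁅x, k2⁆ ≠ 1) : GammaFor K := by
  intro U hel hcard hUN hUC hUZ hUk
  have hfour : ∀ a : G, ∃ y ∈ U, y ≠ 1 ∧ y ≠ a := by
    intro a
    by_contra hcon
    push Not at hcon
    have hsub : (U : Set G) ⊆ ({1, a} : Set G) := by
      intro y hy
      by_cases h1 : y = 1
      · simp [h1]
      · simp [hcon y hy h1]
    have hle : (U : Set G).ncard ≤ ({1, a} : Set G).ncard :=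
      Set.ncard_le_ncard hsub (Set.toFinite _)
    have h2 : ({1, a} : Set G).ncard ≤ 2 := Set.ncard_insert_le _ _ |>.trans (by simp)
    have h3 : (U : Set G).ncard = 4 := by rw [← hcard]; rfl
    omega
  obtain ⟨u, hu, hu1, -⟩ := hfour 1
  obtain ⟨v, hv, hv1, hvu⟩ := hfour u
  obtain ⟨k, hk, c, hc, huk⟩ := hin u (hUN hu) (hel u hu) (hUZ u hu)
  obtain ⟨l, hl, d, hd, hvl⟩ := hin v (hUN hv) (hel v hv) (hUZ v hv)
  have hcK : ∀ x ∈ K, c * x = x * c := fun x hx => (mem_centralizer_iff.1 hc x hx).symm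
  have hdK : ∀ x ∈ K, d * x = x * d := fun x hx => (mem_centralizer_iff.1 hd x hx).symm
  -- conjugation by `u`, `v` on `K`
  have huc : ∀ x ∈ K, u * x * u⁻¹ = k * x * k⁻¹ := by
    intro x hx
    rw [huk]
    calc k * c * x * (k * c)⁻¹ = k * (c * x) * c⁻¹ * k⁻¹ := by group
      _ = k * (x * c) * c⁻¹ * k⁻¹ := by rw [hcK x hx]
      _ = k * x * k⁻¹ := by group
  have hvc : ∀ x ∈ K, v * x * v⁻¹ = l * x * l⁻¹ := by
    intro x hx
    rw [hvl]
    calc l * d * x * (l * d)⁻¹ = l * (d * x) * d⁻¹ * l⁻¹ := by group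
      _ = l * (x * d) * d⁻¹ * l⁻¹ := by rw [hdK x hx]
      _ = l * x * l⁻¹ := by group
  have hcen : ∀ y : K, (∀ x ∈ K, (y : G) * x * (y : G)⁻¹ = x) → y ∈ center ↥K := by
    intro y hy
    rw [mem_center_iff]
    intro x
    apply Subtype.ext
    have := hy x x.2
    show (x : G) * y = y * x
    calc (x : G) * y = ((y : G) * x * (y : G)⁻¹) * y := by rw [this]
      _ = y * x := by group
  have hUone : ∀ w ∈ U, (∀ x ∈ K, w * x * w⁻¹ = x) → w = 1 := by
    intro w hw h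
    have : w ∈ U ⊓ centralizer (K : Set G) := by
      refine ⟨hw, mem_centralizer_iff.mpr fun x hx => ?_⟩
      calc x * w = (w * x * w⁻¹) * w := by rw [h x hx]
        _ = w * x := by group
    rw [hUC] at this
    exact mem_bot.mp this
  have hinv : ∀ w ∈ U, w⁻¹ = w := fun w hw => inv_eq_of_mul_eq_one_left (hel w hw)
  have huv : u * v = v * u := by
    have h1 := hel (u * v) (U.mul_mem hu hv)
    have h2 : (u * v)⁻¹ = u * v := inv_eq_of_mul_eq_one_left h1
    rw [← h2, mul_inv_rev, hinv u hu, hinv v hv]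
  have huv1 : u * v ≠ 1 := by
    intro h
    apply hvu
    have : u * v = u * u := by rw [h, hel u hu]
    exact mul_left_cancel this
  -- conjugation by products
  have hkl : ∀ x ∈ K, (u * v) * x * (u * v)⁻¹ = k * l * x * (k * l)⁻¹ := by
    intro x hx
    have h1 : l * x * l⁻¹ ∈ K := K.mul_mem (K.mul_mem hl hx) (K.inv_mem hl)
    calc (u * v) * x * (u * v)⁻¹ = u * (v * x * v⁻¹) * u⁻¹ := by group
      _ = u * (l * x * l⁻¹) * u⁻¹ := by rw [hvc x hx]
      _ = k * (l * x * l⁻¹) * k⁻¹ := huc _ h1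
      _ = k * l * x * (k * l)⁻¹ := by group
  have hlk : ∀ x ∈ K, (v * u) * x * (v * u)⁻¹ = l * k * x * (l * k)⁻¹ := by
    intro x hx
    have h1 : k * x * k⁻¹ ∈ K := K.mul_mem (K.mul_mem hk hx) (K.inv_mem hk)
    calc (v * u) * x * (v * u)⁻¹ = v * (u * x * u⁻¹) * v⁻¹ := by group
      _ = v * (k * x * k⁻¹) * v⁻¹ := by rw [huc x hx]
      _ = l * (k * x * k⁻¹) * l⁻¹ := hvc _ h1
      _ = l * k * x * (l * k)⁻¹ := by group
  obtain ⟨x, hx1, hx2, hx3⟩ := hG ⟨k, hk⟩ ⟨l, hl⟩ (by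
    apply hcen
    intro x hx
    have h1 : k * x * k⁻¹ ∈ K := K.mul_mem (K.mul_mem hk hx) (K.inv_mem hk)
    show k * k * x * (k * k)⁻¹ = x
    calc k * k * x * (k * k)⁻¹ = k * (k * x * k⁻¹) * k⁻¹ := by group
      _ = u * (k * x * k⁻¹) * u⁻¹ := (huc _ h1).symm
      _ = u * (u * x * u⁻¹) * u⁻¹ := by rw [huc x hx]
      _ = (u * u) * x * (u * u)⁻¹ := by group
      _ = x := by rw [hel u hu]; group) (by
    apply hcen
    intro x hx
    have h1 : l * x * l⁻¹ ∈ K := K.mul_mem (K.mul_mem hl hx) (K.inv_mem hl)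
    show l * l * x * (l * l)⁻¹ = x
    calc l * l * x * (l * l)⁻¹ = l * (l * x * l⁻¹) * l⁻¹ := by group
      _ = v * (l * x * l⁻¹) * v⁻¹ := (hvc _ h1).symm
      _ = v * (v * x * v⁻¹) * v⁻¹ := by rw [hvc x hx]
      _ = (v * v) * x * (v * v)⁻¹ := by group
      _ = x := by rw [hel v hv]; group) (by
    apply hcen
    intro x hx
    show (k * l * k⁻¹ * l⁻¹) * x * (k * l * k⁻¹ * l⁻¹)⁻¹ = x
    -- `(lk)⁻¹ x (lk) = (vu)⁻¹ x (vu)`
    have h1 : ((l * k)⁻¹ * x * (l * k)) ∈ K :=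
      K.mul_mem (K.mul_mem (K.inv_mem (K.mul_mem hl hk)) hx) (K.mul_mem hl hk)
    have h2 := hlk _ h1
    have h3 : (v * u) * ((l * k)⁻¹ * x * (l * k)) * (v * u)⁻¹ = x := by rw [h2]; group
    have h4 := hkl _ h1
    rw [huv, h3] at h4
    calc (k * l * k⁻¹ * l⁻¹) * x * (k * l * k⁻¹ * l⁻¹)⁻¹
        = k * l * ((l * k)⁻¹ * x * (l * k)) * (k * l)⁻¹ := by group
      _ = x := h4.symm) (by
    intro h
    apply hu1
    apply hUone u hu
    intro x hx
    rw [huc x hx]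
    have h1 : x * k = k * x := congrArg Subtype.val (mem_center_iff.mp h ⟨x, hx⟩)
    rw [← h1]; group) (by
    intro h
    apply hv1
    apply hUone v hv
    intro x hx
    rw [hvc x hx]
    have h1 : x * l = l * x := congrArg Subtype.val (mem_center_iff.mp h ⟨x, hx⟩)
    rw [← h1]; group) (by
    intro h
    apply huv1
    apply hUone _ (U.mul_mem hu hv)
    intro x hx
    rw [hkl x hx]
    have h1 : x * (k * l) = k * l * x := congrArg Subtype.val (mem_center_iff.mp h ⟨x, hx⟩)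
    rw [← h1]; group)
  have hx1' : (x : G) * k = k * x := congrArg Subtype.val hx1
  have hxu : (x : G) * u = u * x := by
    rw [huk, ← mul_assoc, hx1', mul_assoc, ← hcK x x.2, mul_assoc]
  have hxN := hUk u hu hu1 x x.2 hxu
  have h1 := (mem_normalizer_iff.mp hxN v).mp hv
  -- `x v x⁻¹ v⁻¹ = [x, l]`
  have h2 : (x : G) * v * (x : G)⁻¹ * v⁻¹ = (x : G) * l * (x : G)⁻¹ * l⁻¹ := by
    have h3 : d * (x : G)⁻¹ = (x : G)⁻¹ * d := hdK _ (K.inv_mem x.2)
    have h4 : d * l⁻¹ = l⁻¹ * d := hdK _ (K.inv_mem hl)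
    rw [hvl]
    calc (x : G) * (l * d) * (x : G)⁻¹ * (l * d)⁻¹ = x * l * (d * (x : G)⁻¹) * d⁻¹ * l⁻¹ := by group
      _ = x * l * ((x : G)⁻¹ * d) * d⁻¹ * l⁻¹ := by rw [h3]
      _ = _ := by group
  have h5 : (x : G) * v * (x : G)⁻¹ * v⁻¹ ∈ U := U.mul_mem h1 (U.inv_mem hv)
  have h6 : (x : G) * v * (x : G)⁻¹ * v⁻¹ = 1 := by
    apply hUone _ h5
    intro y hy
    rw [h2]
    have h7 : y * ((x : G) * l * (x : G)⁻¹ * l⁻¹) = (x : G) * l * (x : G)⁻¹ * l⁻¹ * y :=
      congrArg Subtype.val (mem_center_iff.mp hx2 ⟨y, hy⟩)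
    rw [← h7]; group
  apply hx3
  apply Subtype.ext
  show (x : G) * l * (x : G)⁻¹ * l⁻¹ = 1
  rw [← h2, h6]

end Cfsg.Agent.OddHalf.D9.RankTwo.StdFalse
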