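import Cfsg.Agent.StdSz.CoverA

/-!
# Covers of `Sz(q)` with even centre: `q = 8`
-/

set_option autoImplicit false

namespace Cfsg.Agent.OddHalf.D9.RankTwo.SzEight

open scoped commutatorElement
open Cfsg.Agent.StdSz.EquivMaps Cfsg.Agent.StdSz.SzMaps Cfsg.Agent.StdSz.FormAlg
open Cfsg.Agent.StdSz.BorelCoord Cfsg.Agent.StdSz.CoverA

theorem mod16 (a : ℕ) : 2 ^ a % 16 = 1 ∨ 2 ^ a % 16 = 2 ∨ 2 ^ a % 16 = 4 ∨ 2 ^ a % 16 = 8 ∨ 2 ^ a % 16 = 0 := by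
  rcases Nat.lt_or_ge a 4 with h | h
  · interval_cases a <;> simp
  · obtain ⟨b, rfl⟩ := Nat.exists_eq_add_of_le h
    right; right; right; right
    rw [_root_.pow_add]
    omega

theorem three_pow_ne {n a b c : ℕ} (hn : 4 ≤ n) : 2 ^ a + 2 ^ b + 2 ^ c ≠ 2 ^ n - 1 := by
  intro h
  obtain ⟨k, rfl⟩ := Nat.exists_eq_add_of_le hn
  have hk : 1 ≤ 2 ^ k := Nat.one_le_two_pow
  have h1 : 2 ^ (4 + k) = 16 * 2 ^ k := by rw [_root_.pow_add]; norm_num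
  have ha := mod16 a
  have hb := mod16 b
  have hc := mod16 c
  omega

/-- the weights `1` and `1 + 2 ^ (m + 1)` have no invariant form for `m ≥ 2`. -/
theorem weights {m i j : ℕ} (hm : 2 ≤ m) (hi : i < 2 * m + 1) (hj : j < 2 * m + 1) :
    ¬ 1 * 2 ^ i + (1 + 2 ^ (m + 1)) * 2 ^ j ≡ 0 [MOD 2 ^ (2 * m + 1) - 1] := by
  intro h
  set n := 2 * m + 1 with hn
  -- reduce the exponent `j + m + 1` modulo `n`
  obtain ⟨k, hk, hkm⟩ : ∃ k < n, 2 ^ (m + 1) * 2 ^ j ≡ 2 ^ k [MOD 2 ^ n - 1] := by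
    rw [← _root_.pow_add]
    rcases Nat.lt_or_ge (m + 1 + j) n with h1 | h1
    · exact ⟨_, h1, rfl⟩
    · obtain ⟨k, hk⟩ := Nat.exists_eq_add_of_le h1
      refine ⟨k, by omega, ?_⟩
      rw [hk, show 2 ^ (n + k) = 2 ^ n * 2 ^ k from _root_.pow_add 2 n k]
      have h2 : 2 ^ n ≡ 1 [MOD 2 ^ n - 1] := by
        have h3 : 2 ^ n = (2 ^ n - 1) + 1 := by
          have := Nat.one_le_two_pow (n := n)
          omega
        calc 2 ^ n = (2 ^ n - 1) + 1 := h3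
          _ ≡ 0 + 1 [MOD 2 ^ n - 1] := Nat.ModEq.add_right 1 (by simp [Nat.ModEq])
          _ = 1 := rfl
      have h4 := h2.mul_right (2 ^ k)
      rwa [one_mul] at h4
  have h1 : 2 ^ i + 2 ^ j + 2 ^ k ≡ 0 [MOD 2 ^ n - 1] := by
    have h2 : 1 * 2 ^ i + (1 + 2 ^ (m + 1)) * 2 ^ j = 2 ^ i + 2 ^ j + 2 ^ (m + 1) * 2 ^ j := by ring
    rw [h2] at h
    exact (Nat.ModEq.add_left (2 ^ i + 2 ^ j) hkm).symm.trans h
  have h2 : (2 ^ n - 1) ∣ 2 ^ i + 2 ^ j + 2 ^ k := (Nat.modEq_zero_iff_dvd).mp h1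
  obtain ⟨r, hr⟩ := h2
  have e : 2 ^ n = 2 * 2 ^ (n - 1) := by
    rw [← pow_succ', show n - 1 + 1 = n by omega]
  have hi' : 2 ^ i ≤ 2 ^ (n - 1) := Nat.pow_le_pow_right (by norm_num) (by omega)
  have hj' : 2 ^ j ≤ 2 ^ (n - 1) := Nat.pow_le_pow_right (by norm_num) (by omega)
  have hk' : 2 ^ k ≤ 2 ^ (n - 1) := Nat.pow_le_pow_right (by norm_num) (by omega)
  have h8 : 8 ≤ 2 ^ (n - 1) := by
    calc 8 = 2 ^ 3 := by norm_num
      _ ≤ 2 ^ (n - 1) := Nat.pow_le_pow_right (by norm_num) (by omega)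
  have pi : 1 ≤ 2 ^ i := Nat.one_le_two_pow
  have pj : 1 ≤ 2 ^ j := Nat.one_le_two_pow
  have pk : 1 ≤ 2 ^ k := Nat.one_le_two_pow
  have hr1 : r = 1 := by
    rcases r with _ | _ | r
    · omega
    · rfl
    · exfalso
      have : (2 ^ n - 1) * 2 ≤ (2 ^ n - 1) * (r + 1 + 1) := Nat.mul_le_mul_left _ (by omega)
      omega
  rw [hr1, mul_one] at hr
  exact three_pow_ne (by omega) hr

variable {m : ℕ} {F : Type*} [Field F] {S : Type*} [Group S] {A : Type*} [Group A]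
  {C : Data m F S} {π : A →* S} {P : Subgroup A} {t : A}

/-- `q = 8`. -/
theorem eight [Fintype F] [CharP F 2] (K : Cov C π P t) (hm : 1 ≤ m)
    (hF : Fintype.card F = 2 ^ (2 * m + 1)) (hcom : (⟨t, K.t_mem⟩ : P) ∈ commutator P) : m = 1 := by
  by_contra hm1
  have hm2 : 2 ≤ m := by omega
  obtain ⟨zh, Z, hval, hleft, -⟩ := K.main hm hF hcom
  choose xl hxP hxl using fun a => K.from_p a 0
  -- multiplication by an element over `p 0 d` does not matter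
  have hkey : ∀ x ∈ P, ∀ x' ∈ P, ∀ a b b', π x = C.p a b → π x' = C.p a b' → ∀ c,
      ⁅x, zh c⁆ = ⁅x', zh c⁆ := by
    intro x hx x' hx' a b b' hab hab' c
    have h1 : x' = x * (x⁻¹ * x') := by group
    have h2 : ⁅x⁻¹ * x', zh c⁆ = 1 :=
      K.comm_z hm hF (P.mul_mem (P.inv_mem hx) hx') (Z.mem c) (Cov.inv_mul_pi hab hab') (Z.pi c)
    rw [h1, K.cl (by rw [h2, map_one]), h2, mul_one]
  have hadd1 : ∀ a a' c, ⁅xl (a + a'), zh c⁆ = ⁅xl a, zh c⁆ * ⁅xl a', zh c⁆ := by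
    intro a a' c
    rw [← K.cl (Cov.pi_comm_zh Z (hxl a') c)]
    exact hkey _ (hxP _) _ (P.mul_mem (hxP _) (hxP _)) _ _ _ (hxl _)
      (by rw [map_mul, hxl, hxl, C.p_mul]) c
  have hadd2 : ∀ a c c', ⁅xl a, zh (c + c')⁆ = ⁅xl a, zh c⁆ * ⁅xl a, zh c'⁆ := by
    intro a c c'
    rw [Z.add, K.cr (Cov.pi_comm_zh Z (hxl a) c')]
  set f : F → F → F := fun a c => Cov.io F ⁅xl a, zh c⁆ with hf
  have hf1 : ∀ x x' y, f (x + x') y = f x y + f x' y := by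
    intro a a' c
    simp only [hf]
    rw [hadd1, K.io_mul (hval _ (hxP _) _) (hval _ (hxP _) _)]
  have hf2 : ∀ x y y', f x (y + y') = f x y + f x y' := by
    intro a c c'
    simp only [hf]
    rw [hadd2, K.io_mul (hval _ (hxP _) _) (hval _ (hxP _) _)]
  have hinv : ∀ μ x y : F, μ ≠ 0 → f (μ * x) (μ ^ (1 + 2 ^ (m + 1)) * y) = f x y := by
    intro l a c hl
    simp only [hf]
    congr 1
    obtain ⟨g, hg⟩ := K.tor (Units.mk0 l hl)
    have h1 := K.pi_conj hg (hxl a)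
    rw [Units.val_mk0] at h1
    have h2 := Z.conj g _ hg c
    rw [Units.val_mk0] at h2
    rw [hkey _ (hxP _) _ (K.tor_P g _ hg _ (hxP a)) _ _ _ (hxl _) h1, ← h2, ← Cov.conj_comm]
    have h3 := K.cen _ (Cov.pi_comm_zh Z (hxl a) c) g
    rw [← h3, mul_inv_cancel_right]
  obtain ⟨c, hc⟩ := exists_coeff₂ hF (by omega) f hf1 hf2
  have hz : ∀ i j : Fin (2 * m + 1), c i j = 0 := by
    intro i j
    apply coeff₂_eq_zero_of_equivariant hF (by omega) c 1 (1 + 2 ^ (m + 1)) 0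
    · intro μ x y hμ
      rw [← hc, ← hc, pow_one, pow_zero, one_mul]
      exact hinv μ x y hμ
    · exact weights hm2 i.2 j.2
  obtain ⟨c0, hc0⟩ := hleft (xl 1) (hxP 1) 1 0 (hxl 1) one_ne_zero
  have h0 : f 1 c0 = 0 := by
    rw [hc]
    simp [hz]
  have h1 := Cov.io_eq_zero h0
  rw [hc0] at h1
  exact K.t_one h1

end Cfsg.Agent.OddHalf.D9.RankTwo.SzEight
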