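import Cfsg.Agent.OddHalf.D9.RankTwo.SzEight
import Cfsg.Agent.OddHalf.D9.RankTwo.Abel
import Cfsg.Agent.GH.Cov.SzCover

/-!
# Covers of `Sz(q)` with noncyclic centre

`A` perfect, `Z(A)` a noncyclic 2-group, `A / Z(A) ≅ Sz(q)`. Then `q = 8`, `|Ω₁(Z(A))| = 4`, and for two commuting
involutions `s₁ ≠ s₂` of `A / Z(A)` with representatives `k₁`, `k₂` some `x ∈ A` commutes with `k₁`,
and `⁅x, k₂⁆` is a nontrivial element of the centre.
-/

set_option autoImplicit false
set_option linter.unusedSectionVars false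
set_option linter.style.haveILetI false

namespace Cfsg.Agent.OddHalf.D9.RankTwo.SzFour

open scoped commutatorElement
open Cfsg.Agent.StdSz Cfsg.Agent.StdSz.FormAlg Cfsg.Agent.StdSz.BorelCoord Cfsg.Agent.StdSz.CoverA
open Cfsg.Agent.StdSz.CoverC Cfsg.Agent.GH.Cov.SzCover
open Cfsg.Agent.LieRecognition Cfsg.Agent Subgroup

/-- the centre is a commutative group -/
instance (priority := 100) centerComm (A : Type*) [Group A] : CommGroup (center A) :=
  { (center A).toGroup with mul_comm := fun a b => Subtype.ext (mem_center_iff.mp b.2 a) }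

/-- A proper subgroup of the centre containing the squares lies in a subgroup of index 2. -/
theorem exists_avoid {A : Type*} [Group A] [Finite A] (Y : Subgroup A) (hY : Y ≤ center A)
    (hsq : ∀ z ∈ center A, z * z ∈ Y) {w : A} (_hwc : w ∈ center A) (hw : w ∉ Y) :
    ∃ Z1 : Subgroup A, Y ≤ Z1 ∧ Z1 ≤ center A ∧ w ∉ Z1 ∧ ∀ z ∈ center A, z ∈ Z1 ∨ w⁻¹ * z ∈ Z1 := by
  classical
  let S : Set (Subgroup A) := {Z | Y ≤ Z ∧ Z ≤ center A ∧ w ∉ Z}
  have hS : Y ∈ S := ⟨le_rfl, hY, hw⟩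
  obtain ⟨Z1, hZ1⟩ := (Set.toFinite S).exists_maximal ⟨_, hS⟩
  have h1 : Y ≤ Z1 := hZ1.prop.1
  have h2 : Z1 ≤ center A := hZ1.prop.2.1
  have h3 : w ∉ Z1 := hZ1.prop.2.2
  refine ⟨Z1, h1, h2, h3, ?_⟩
  intro z hzc
  by_contra hcon
  push Not at hcon
  have hzz : z * z ∈ Z1 := h1 (hsq z hzc)
  have hcz := fun g => Subgroup.mem_center_iff.mp hzc g
  let Z2 : Subgroup A :=
    { carrier := {y | y ∈ Z1 ∨ z⁻¹ * y ∈ Z1}
      one_mem' := Or.inl (one_mem _)
      mul_mem' := by
        rintro x y (hx | hx) (hy | hy)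
        · exact Or.inl (mul_mem hx hy)
        · right
          have : z⁻¹ * (x * y) = x * (z⁻¹ * y) := by
            have h5 : z⁻¹ * x = x * z⁻¹ := by
              rw [inv_mul_eq_iff_eq_mul, ← mul_assoc, ← hcz, mul_inv_cancel_right]
            rw [← mul_assoc, h5, mul_assoc]
          rw [this]
          exact mul_mem hx hy
        · right
          rw [← mul_assoc]
          exact mul_mem hx hy
        · left
          have : x * y = (z * z) * ((z⁻¹ * x) * (z⁻¹ * y)) := by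
            have h5 : z * (z⁻¹ * x) = (z⁻¹ * x) * z := (hcz _).symm
            calc x * y = z * (z⁻¹ * x) * y := by group
              _ = z * ((z⁻¹ * x) * z) * (z⁻¹ * y) := by group
              _ = z * (z * (z⁻¹ * x)) * (z⁻¹ * y) := by rw [h5]
              _ = _ := by group
          rw [this]
          exact mul_mem hzz (mul_mem hx hy)
      inv_mem' := by
        rintro x (hx | hx)
        · exact Or.inl (inv_mem hx)
        · right
          have : z⁻¹ * x⁻¹ = (z * z)⁻¹ * (z⁻¹ * x)⁻¹ := by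
            have h5 : x⁻¹ * z = z * x⁻¹ := hcz _
            rw [mul_inv_rev, mul_inv_rev, inv_inv, h5]
            group
          rw [this]
          exact mul_mem (inv_mem hzz) (inv_mem hx) }
  have hle : Z1 ≤ Z2 := fun y hy => Or.inl hy
  have hz2 : z ∈ Z2 := Or.inr (by rw [inv_mul_cancel]; exact one_mem _)
  have hw2 : w ∈ Z2 := by
    by_contra hw2
    have h6 : Z2 ∈ S := by
      refine ⟨h1.trans hle, ?_, hw2⟩
      rintro y (hy | hy)
      · exact h2 hy
      · have : y = z * (z⁻¹ * y) := by group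
        rw [this]
        exact mul_mem hzc (h2 hy)
    exact hcon.1 (hZ1.le_of_ge h6 hle hz2)
  rcases hw2 with h | h
  · exact h3 h
  · apply hcon.2
    have := inv_mem h
    rwa [mul_inv_rev, inv_inv] at this

variable {A : Type*} [Group A] [Finite A] {F : Type*} [Field F] [Fintype F] {m : ℕ}
  {hF : Fintype.card F = 2 ^ (2 * m + 1)} {π : A →* ↥(Cfsg.Lie.Sz F (2 ^ (m + 1)))} {P : Subgroup A}

theorem center_le (B : Base hF π P) (h2 : IsPGroup 2 (center A)) : center A ≤ P := by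
  intro z hz
  obtain ⟨k, hk⟩ := h2 ⟨z, hz⟩
  exact (B.mem z).mpr ⟨⟨0, 0, by rw [(B.ker z).mpr hz, (szData hF).p_zero]⟩, k, congrArg Subtype.val hk⟩

/-- Modulo a subgroup of index two of the centre. -/
theorem exists_comm (B : Base hF π P) (hp : commutator A = ⊤) (hm : 1 ≤ m) (Z1 : Subgroup A)
    (hZ1 : Z1 ≤ center A) {w : A} (hwP : w ∈ P) (hwc : w ∈ center A) (hw1 : w ∉ Z1) (hww : w * w ∈ Z1)
    (hcov : ∀ z ∈ P, z ∈ center A → z ∈ Z1 ∨ w⁻¹ * z ∈ Z1) :
    m = 1 ∧ ∀ x ∈ P, ∀ a b, π x = (szData hF).p a b → a ≠ 0 →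
      ∃ e ∈ P, ∃ c, π e = (szData hF).p 0 c ∧ ⁅x, e⁆ ∉ Z1 := by
  have : Z1.Normal := by
    constructor
    intro n hn g
    rw [Subgroup.mem_center_iff.mp (hZ1 hn) g, mul_inv_cancel_right]
    exact hn
  let q := QuotientGroup.mk' Z1
  have hq : ∀ x, q x = 1 ↔ x ∈ Z1 := fun x => QuotientGroup.eq_one_iff x
  let π1 : A ⧸ Z1 →* ↥(Cfsg.Lie.Sz F (2 ^ (m + 1))) := QuotientGroup.lift Z1 π (by
    intro x hx
    exact (B.ker x).mpr (hZ1 hx))
  have hπ1 : ∀ x, π1 (q x) = π x := fun x => rfl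
  have hC : Cov (szData hF) π1 (P.map q) (q w) :=
    { cen := by
        intro x hx y
        obtain ⟨x, rfl⟩ := QuotientGroup.mk'_surjective Z1 x
        obtain ⟨y, rfl⟩ := QuotientGroup.mk'_surjective Z1 y
        rw [← map_mul, ← map_mul, B.cen x hx y]
      to_p := by
        rintro _ ⟨x, hx, rfl⟩
        exact ((B.mem x).mp hx).1
      from_p := by
        intro a b
        obtain ⟨x, hx, h⟩ := B.lift a b
        exact ⟨q x, ⟨x, hx, rfl⟩, h⟩
      tor := by
        intro l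
        obtain ⟨g, hg⟩ := B.surj ((szData hF).h l)
        exact ⟨q g, hg⟩
      tor_P := by
        intro g l hg x hx
        obtain ⟨g, rfl⟩ := QuotientGroup.mk'_surjective Z1 g
        obtain ⟨x, hx, rfl⟩ := hx
        exact ⟨g * x * g⁻¹, B.tor_P g l hg x hx, by simp [q]⟩
      t_mem := ⟨w, hwP, rfl⟩
      t_one := fun h => hw1 ((hq w).mp h)
      t_sq := by rw [← map_mul]; exact (hq _).mpr hww
      t_ker := by rw [hπ1]; exact (B.ker w).mpr hwc
      uniq := by
        rintro _ ⟨x, hx, rfl⟩ hx1 _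
        have hxc : x ∈ Subgroup.center A := (B.ker x).mp hx1
        rcases hcov x hx hxc with h | h
        · left; exact (hq x).mpr h
        · right
          have h2 : q (w⁻¹ * x) = 1 := (hq _).mpr h
          rw [map_mul, map_inv, inv_mul_eq_one] at h2
          exact h2.symm }
  have := EquivMaps.charP_two hF
  have hpq : commutator (A ⧸ Z1) = ⊤ := by
    have h1 := Subgroup.map_commutator (⊤ : Subgroup A) ⊤ q
    rw [← commutator_def, hp] at h1
    have h3 : (⊤ : Subgroup A).map q = ⊤ := by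
      rw [← MonoidHom.range_eq_map, MonoidHom.range_eq_top]
      exact QuotientGroup.mk'_surjective Z1
    rw [h3] at h1
    rw [commutator_def, ← h1]
  have hodd : Odd (P.map q).index :=
    Odd.of_dvd_nat B.odd (Subgroup.index_map_dvd P (QuotientGroup.mk'_surjective Z1))
  have hcom : (⟨q w, hC.t_mem⟩ : P.map q) ∈ commutator (P.map q) := by
    refine mem_commutator_of_central (P.map q) hodd (q w) hC.t_mem ?_ hC.t_sq ?_
    · intro g
      exact hC.cen _ hC.t_ker g
    · rw [hpq]; exact Subgroup.mem_top _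
  refine ⟨SzEight.eight hC hm hF hcom, fun x hx a b hab ha => ?_⟩
  obtain ⟨zh, Z, -, hleft, -⟩ := hC.main hm hF hcom
  obtain ⟨c, hc⟩ := hleft (q x) ⟨x, hx, rfl⟩ a b hab ha
  obtain ⟨e, he, hec⟩ := Z.mem c
  refine ⟨e, he, c, ?_, ?_⟩
  · have h1 := Z.pi c
    rw [← hec] at h1
    exact h1
  · intro h
    rw [← hec] at hc
    have h1 : q ⁅x, e⁆ = 1 := (hq _).mpr h
    rw [map_commutatorElement] at h1
    rw [h1] at hc
    exact hC.t_one hc.symm

/-- commutators with an element `x` of `P` on the preimage of `Z(T)` -/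
def cm (B : Base hF π P) {x : A} (hx : x ∈ P) : B.Z0 →* center A where
  toFun e := ⟨⁅x, (e : A)⁆, by
    obtain ⟨a, b, hab⟩ := ((B.mem x).mp hx).1
    obtain ⟨c, hc⟩ := e.2.2
    rw [← B.ker, map_commutatorElement, hab, hc, commutatorElement_eq_one_iff_mul_comm, (szData hF).comm_zero]⟩
  map_one' := Subtype.ext (commutatorElement_one_right x)
  map_mul' e e' := by
    apply Subtype.ext
    show ⁅x, (e : A) * e'⁆ = ⁅x, (e : A)⁆ * ⁅x, (e' : A)⁆
    have hc : ⁅x, (e' : A)⁆ ∈ center A := by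
      obtain ⟨a, b, hab⟩ := ((B.mem x).mp hx).1
      obtain ⟨c, hc⟩ := e'.2.2
      rw [← B.ker, map_commutatorElement, hab, hc, commutatorElement_eq_one_iff_mul_comm,
        (szData hF).comm_zero]
    have h1 : ⁅x, (e : A) * e'⁆ = ⁅x, (e : A)⁆ * ((e : A) * ⁅x, (e' : A)⁆ * (e : A)⁻¹) := by
      simp only [commutatorElement_def]; group
    rw [h1, mem_center_iff.mp hc, mul_inv_cancel_right]

theorem cm_apply (B : Base hF π P) {x : A} (hx : x ∈ P) (e : B.Z0) : ((cm B hx e : center A) : A) = ⁅x, (e : A)⁆ :=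
  rfl

/-- `π` on the preimage of `Z(T)` -/
def pz (B : Base hF π P) : B.Z0 →* ↥(Cfsg.Lie.Sz F (2 ^ (m + 1))) := π.comp B.Z0.subtype

theorem card_center_eq (B : Base hF π P) (H : Subgroup A) (hH : center A ≤ H) :
    Nat.card (π.comp H.subtype).ker = Nat.card (center A) := by
  refine Nat.card_congr ⟨fun x => ⟨x.1.1, (B.ker _).mp x.2⟩, fun x =>
    ⟨⟨x.1, hH x.2⟩, (B.ker _).mpr x.2⟩, fun x => rfl, fun x => rfl⟩

theorem card_Z0 (B : Base hF π P) (h2 : IsPGroup 2 (center A)) :
    Nat.card B.Z0 = Nat.card (center A) * 2 ^ (2 * m + 1) := by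
  have hle : center A ≤ B.Z0 := fun z hz => ⟨center_le B h2 hz, 0, by
    rw [(B.ker z).mpr hz, (szData hF).p_zero]⟩
  rw [Abel.card_eq_ker_mul_range (π.comp B.Z0.subtype), card_center_eq B _ hle]
  congr 1
  rw [← hF, ← Nat.card_eq_fintype_card]
  refine (Nat.card_congr (Equiv.ofBijective (fun b : F => (⟨(szData hF).p 0 b, ?_⟩ :
    (π.comp B.Z0.subtype).range)) ⟨?_, ?_⟩)).symm
  · obtain ⟨x, hx, hxb⟩ := B.lift 0 b
    exact ⟨⟨x, hx, b, hxb⟩, hxb⟩
  · intro b c hbc
    exact ((szData hF).p_inj _ _ _ _ (congrArg Subtype.val hbc)).2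
  · rintro ⟨_, ⟨x, hx, b, hb⟩, rfl⟩
    exact ⟨b, Subtype.ext hb.symm⟩

theorem card_P (B : Base hF π P) (h2 : IsPGroup 2 (center A)) :
    Nat.card P = Nat.card (center A) * (2 ^ (2 * m + 1) * 2 ^ (2 * m + 1)) := by
  rw [Abel.card_eq_ker_mul_range (π.comp P.subtype), card_center_eq B _ (center_le B h2)]
  congr 1
  rw [← hF, ← Nat.card_eq_fintype_card, ← Nat.card_prod]
  refine (Nat.card_congr (Equiv.ofBijective (fun b : F × F => (⟨(szData hF).p b.1 b.2, ?_⟩ :
    (π.comp P.subtype).range)) ⟨?_, ?_⟩)).symm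
  · obtain ⟨x, hx, hxb⟩ := B.lift b.1 b.2
    exact ⟨⟨x, hx⟩, hxb⟩
  · intro b c hbc
    have h1 := (szData hF).p_inj _ _ _ _ (congrArg Subtype.val hbc)
    exact Prod.ext h1.1 h1.2
  · rintro ⟨_, ⟨x, hx⟩, rfl⟩
    obtain ⟨a, b, hab⟩ := ((B.mem x).mp hx).1
    exact ⟨(a, b), Subtype.ext hab.symm⟩

/-- the elements of `Z(T)` commuting with `x` -/
def fx (B : Base hF π P) {x : A} (hx : x ∈ P) : Subgroup ↥(Cfsg.Lie.Sz F (2 ^ (m + 1))) :=
  (cm B hx).ker.map (pz B)

theorem card_fx (B : Base hF π P) (h2 : IsPGroup 2 (center A)) {x : A} (hx : x ∈ P) :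
    Nat.card (fx B hx) * Nat.card (cm B hx).range = 2 ^ (2 * m + 1) := by
  have h1 := Abel.card_eq_ker_mul_range (cm B hx)
  rw [card_Z0 B h2] at h1
  -- the kernel of `cm`
  let f : (cm B hx).ker →* ↥(Cfsg.Lie.Sz F (2 ^ (m + 1))) := (pz B).comp (cm B hx).ker.subtype
  have h3 := Abel.card_eq_ker_mul_range f
  have h4 : f.range = fx B hx := by
    ext y
    constructor
    · rintro ⟨e, rfl⟩
      exact ⟨e.1, e.2, rfl⟩
    · rintro ⟨e, he, rfl⟩
      exact ⟨⟨e, he⟩, rfl⟩
  have h5 : Nat.card f.ker = Nat.card (center A) := by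
    refine Nat.card_congr ⟨fun y => ⟨y.1.1.1, (B.ker _).mp y.2⟩, fun y =>
      ⟨⟨⟨y.1, center_le B h2 y.2, 0, by rw [(B.ker _).mpr y.2, (szData hF).p_zero]⟩, ?_⟩,
        (B.ker _).mpr y.2⟩, fun y => rfl, fun y => rfl⟩
    apply Subtype.ext
    show ⁅x, (y : A)⁆ = 1
    rw [commutatorElement_eq_one_iff_mul_comm]
    exact mem_center_iff.mp y.2 x
  rw [h4, h5] at h3
  rw [h3, mul_assoc] at h1
  have h6 : 0 < Nat.card (center A) := Nat.card_pos
  exact (Nat.eq_of_mul_eq_mul_left h6 h1).symm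

theorem sq_mem_range (B : Base hF π P) (hp : commutator A = ⊤) (h2 : IsPGroup 2 (center A)) (hm : 1 ≤ m)
    {x : A} (hx : x ∈ P) {a b : F} (hab : π x = (szData hF).p a b) (ha : a ≠ 0) :
    (cm B hx).range ⊔ (powMonoidHom (α := center A) 2).range = ⊤ := by
  by_contra hne
  set W := (cm B hx).range ⊔ (powMonoidHom (α := center A) 2).range with hW
  obtain ⟨w, hw⟩ : ∃ w : center A, w ∉ W := by
    by_contra hcon
    push Not at hcon
    exact hne (eq_top_iff.mpr fun w _ => hcon w)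
  have hmem : ∀ y : center A, (y : A) ∈ W.map (center A).subtype ↔ y ∈ W := by
    intro y
    constructor
    · rintro ⟨y', hy', h⟩
      rwa [← Subtype.ext (a1 := y') (a2 := y) h]
    · intro h
      exact ⟨y, h, rfl⟩
  obtain ⟨Z1, h1, h3, h4, h5⟩ := exists_avoid (W.map (center A).subtype) (map_subtype_le _)
    (w := (w : A)) (by
      intro z hz
      rw [show z * z = ((⟨z, hz⟩ * ⟨z, hz⟩ : center A) : A) from rfl, hmem]
      apply mem_sup_right
      exact ⟨⟨z, hz⟩, pow_two _⟩) w.2 (by rwa [hmem])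
  have hww : (w : A) * w ∈ Z1 := by
    apply h1
    rw [show (w : A) * w = ((w * w : center A) : A) from rfl, hmem]
    apply mem_sup_right
    exact ⟨w, pow_two _⟩
  obtain ⟨e, he, c, hc, hne⟩ := (exists_comm B hp hm Z1 h3 (center_le B h2 w.2) w.2 h4 hww
    fun z _ hz => h5 z hz).2 x hx a b hab ha
  apply hne
  apply h1
  rw [show ⁅x, e⁆ = ((cm B hx ⟨e, he, c, hc⟩ : center A) : A) from rfl, hmem]
  apply mem_sup_left
  exact ⟨_, rfl⟩

theorem card_omega_le (B : Base hF π P) (hp : commutator A = ⊤) (h2 : IsPGroup 2 (center A)) (hm : 1 ≤ m)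
    {x : A} (hx : x ∈ P) {a b : F} (hab : π x = (szData hF).p a b) (ha : a ≠ 0) :
    Nat.card (powMonoidHom (α := center A) 2).ker ≤ Nat.card (cm B hx).range := by
  have h1 := Abel.card_sq (V := center A)
  have h3 := sq_mem_range B hp h2 hm hx hab ha
  have h4 : Nat.card (center A) ≤ Nat.card (cm B hx).range * Nat.card (powMonoidHom (α := center A) 2).range := by
    rw [← Nat.card_prod]
    refine Nat.card_le_card_of_surjective (fun y => (y.1 : center A) * y.2) ?_
    intro z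
    have hz : z ∈ (cm B hx).range ⊔ (powMonoidHom (α := center A) 2).range := by
      rw [h3]; exact mem_top _
    obtain ⟨y, hy, s, hs, hys⟩ := Subgroup.mem_sup.mp hz
    exact ⟨(⟨y, hy⟩, ⟨s, hs⟩), hys⟩
  rw [h1] at h4
  have h5 : 0 < Nat.card (powMonoidHom (α := center A) 2).range := Nat.card_pos
  exact Nat.le_of_mul_le_mul_right h4 h5

theorem exists_lift_ne (B : Base hF π P) : ∃ x ∈ P, ∃ a b, π x = (szData hF).p a b ∧ a ≠ 0 := by
  obtain ⟨x, hx, h⟩ := B.lift 1 0
  exact ⟨x, hx, 1, 0, h, one_ne_zero⟩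

/-- `q = 8` as soon as the centre is nontrivial. -/
theorem eq_one (B : Base hF π P) (hp : commutator A = ⊤) (h2 : IsPGroup 2 (center A)) (hm : 1 ≤ m)
    (hc : center A ≠ ⊥) : m = 1 := by
  -- a non-square
  have hns : (powMonoidHom (α := center A) 2).range ≠ ⊤ := by
    intro htop
    have h1 := Abel.card_sq (V := center A)
    rw [htop, Subgroup.card_top] at h1
    have h3 : 0 < Nat.card (center A) := Nat.card_pos
    have h4 : Nat.card (powMonoidHom (α := center A) 2).ker = 1 := by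
      have : 1 * Nat.card (center A) = Nat.card (powMonoidHom (α := center A) 2).ker * Nat.card (center A) := by
        rw [one_mul]; exact h1
      exact (Nat.eq_of_mul_eq_mul_right h3 this).symm
    have h5 : Nat.card (center A) ≠ 1 := fun h => hc (Subgroup.card_eq_one.mp h)
    obtain ⟨n, hn⟩ := (IsPGroup.iff_card (p := 2)).mp h2
    have h6 : 2 ∣ Nat.card (center A) := by
      rcases n with _ | n
      · rw [pow_zero] at hn; exact absurd hn h5
      · rw [hn]; exact dvd_pow_self 2 (Nat.succ_ne_zero n)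
    haveI : Fact (Nat.Prime 2) := ⟨Nat.prime_two⟩
    obtain ⟨z, hz⟩ := exists_prime_orderOf_dvd_card' 2 h6
    have h7 : z ∈ (powMonoidHom (α := center A) 2).ker := by
      show z ^ 2 = 1
      rw [← hz, pow_orderOf_eq_one]
    have h8 : z = 1 := by
      have := Subgroup.card_eq_one.mp h4
      rw [this] at h7
      exact mem_bot.mp h7
    rw [h8, orderOf_one] at hz
    omega
  obtain ⟨w, hw⟩ : ∃ w : center A, w ∉ (powMonoidHom (α := center A) 2).range := by
    by_contra hcon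
    push Not at hcon
    exact hns (eq_top_iff.mpr fun w _ => hcon w)
  set W := (powMonoidHom (α := center A) 2).range with hW
  have hmem : ∀ y : center A, (y : A) ∈ W.map (center A).subtype ↔ y ∈ W := by
    intro y
    constructor
    · rintro ⟨y', hy', h⟩
      rwa [← Subtype.ext (a1 := y') (a2 := y) h]
    · intro h
      exact ⟨y, h, rfl⟩
  obtain ⟨Z1, h1, h3, h4, h5⟩ := exists_avoid (W.map (center A).subtype) (map_subtype_le _)
    (w := (w : A)) (by
      intro z hz
      rw [show z * z = ((⟨z, hz⟩ * ⟨z, hz⟩ : center A) : A) from rfl, hmem]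
      exact ⟨⟨z, hz⟩, pow_two _⟩) w.2 (by rwa [hmem])
  have hww : (w : A) * w ∈ Z1 := by
    apply h1
    rw [show (w : A) * w = ((w * w : center A) : A) from rfl, hmem]
    exact ⟨w, pow_two _⟩
  exact (exists_comm B hp hm Z1 h3 (center_le B h2 w.2) w.2 h4 hww fun z _ hz => h5 z hz).1

end Cfsg.Agent.OddHalf.D9.RankTwo.SzFour
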