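import Cfsg.Agent.OddHalf.D9.RankTwo.SzFour

/-!
# Covers of `Sz(q)` with noncyclic centre: the end

`card_omega`: `|Ω₁(Z(A))| = 4`. `gamma`: the statement on two commuting involutions of `A / Z(A)`.
-/

set_option autoImplicit false
set_option linter.unusedSectionVars false
set_option linter.style.haveILetI false

namespace Cfsg.Agent.OddHalf.D9.RankTwo.SzGamma

open scoped commutatorElement
open Cfsg.Agent.StdSz Cfsg.Agent.StdSz.FormAlg Cfsg.Agent.StdSz.BorelCoord Cfsg.Agent.StdSz.CoverA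
open Cfsg.Agent.StdSz.CoverC Cfsg.Agent.GH.Cov.SzCover
open Cfsg.Agent.LieRecognition Cfsg.Agent Subgroup
open Cfsg.Agent.OddHalf.D9.RankTwo.SzFour

variable {A : Type*} [Group A] [Finite A] {F : Type*} [Field F] [Fintype F] {m : ℕ}
  {hF : Fintype.card F = 2 ^ (2 * m + 1)} {π : A →* ↥(Cfsg.Lie.Sz F (2 ^ (m + 1)))} {P : Subgroup A}

theorem ne_bot_of_nc (hnc : ¬ IsCyclic (center A)) : center A ≠ ⊥ := by
  intro h
  apply hnc
  rw [h]
  infer_instance

/-- `|Ω₁| > 2`. -/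
theorem two_lt (h2 : IsPGroup 2 (center A)) (hnc : ¬ IsCyclic (center A)) :
    2 < Nat.card (powMonoidHom (α := center A) 2).ker := by
  by_contra h
  exact hnc (Abel.isCyclic_of_card_le h2 (by omega))

theorem card_range_le_four (B : Base hF π P) (hp : commutator A = ⊤) (h2 : IsPGroup 2 (center A)) (hm : 1 ≤ m)
    (hnc : ¬ IsCyclic (center A)) {x : A} (hx : x ∈ P) {a b : F} (hab : π x = (szData hF).p a b)
    (ha : a ≠ 0) : Nat.card (cm B hx).range ≤ 4 := by
  obtain rfl := eq_one B hp h2 hm (ne_bot_of_nc hnc)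
  have := EquivMaps.charP_two hF
  have h1 := card_fx B h2 hx
  have h3 : 2 ≤ Nat.card (fx B hx) := by
    have hxx : x * x ∈ B.Z0 := ⟨mul_mem hx hx, _, by rw [map_mul, hab, (szData hF).p_sq]⟩
    have h4 : (szData hF).p 0 (a ^ (1 + 2 ^ (1 + 1))) ∈ fx B hx := by
      refine ⟨⟨x * x, hxx⟩, ?_, ?_⟩
      · apply Subtype.ext
        show ⁅x, x * x⁆ = 1
        rw [commutatorElement_eq_one_iff_mul_comm]
        group
      · show π (x * x) = _
        rw [map_mul, hab, (szData hF).p_sq]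
    have h5 : (szData hF).p 0 (a ^ (1 + 2 ^ (1 + 1))) ≠ 1 := by
      rw [← (szData hF).p_zero]
      intro h
      have := ((szData hF).p_inj _ _ _ _ h).2
      exact ha (pow_eq_zero_iff (by norm_num) |>.mp this)
    have : Nontrivial (fx B hx) := ⟨⟨⟨_, h4⟩, 1, fun h => h5 (congrArg Subtype.val h)⟩⟩
    exact Finite.one_lt_card
  have h4 : 2 ^ (2 * 1 + 1) = 8 := by norm_num
  rw [h4] at h1
  by_contra hcon
  have h5 : 5 ≤ Nat.card (cm B hx).range := by omega
  have := Nat.mul_le_mul h3 h5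
  omega

/-- **`|Ω₁(Z(A))| = 4`.** -/
theorem card_omega (B : Base hF π P) (hp : commutator A = ⊤) (h2 : IsPGroup 2 (center A)) (hm : 1 ≤ m)
    (hnc : ¬ IsCyclic (center A)) : Nat.card (powMonoidHom (α := center A) 2).ker = 4 := by
  obtain ⟨x, hx, a, b, hab, ha⟩ := exists_lift_ne B
  have h1 := card_omega_le B hp h2 hm hx hab ha
  have h3 := card_range_le_four B hp h2 hm hnc hx hab ha
  have h4 := two_lt h2 hnc
  have h5 : IsPGroup 2 (powMonoidHom (α := center A) 2).ker := h2.to_subgroup _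
  have : Fact (Nat.Prime 2) := ⟨Nat.prime_two⟩
  obtain ⟨n, hn⟩ := IsPGroup.iff_card.mp h5
  rw [hn] at h1 h4 ⊢
  rcases n with _ | _ | _ | n
  · norm_num at h4
  · norm_num at h4
  · norm_num
  · exfalso
    have h6 : 2 ^ 3 ≤ 2 ^ (n + 1 + 1 + 1) := Nat.pow_le_pow_right (by norm_num) (by omega)
    omega

/-- commutators with `k` -/
def cr (B : Base hF π P) {k : A} {b : F} (hk : π k = (szData hF).p 0 b) : P →* center A where
  toFun x := ⟨⁅(x : A), k⁆, by
    obtain ⟨a, c, hac⟩ := ((B.mem x).mp x.2).1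
    rw [← B.ker, map_commutatorElement, hac, hk, commutatorElement_eq_one_iff_mul_comm, (szData hF).comm_zero]⟩
  map_one' := Subtype.ext (commutatorElement_one_left k)
  map_mul' x y := by
    apply Subtype.ext
    show ⁅(x : A) * y, k⁆ = ⁅(x : A), k⁆ * ⁅(y : A), k⁆
    have hc : ⁅(y : A), k⁆ ∈ center A := by
      obtain ⟨a, c, hac⟩ := ((B.mem y).mp y.2).1
      rw [← B.ker, map_commutatorElement, hac, hk, commutatorElement_eq_one_iff_mul_comm,
        (szData hF).comm_zero]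
    have h1 : ⁅(x : A) * y, k⁆ = ((x : A) * ⁅(y : A), k⁆ * (x : A)⁻¹) * ⁅(x : A), k⁆ := by
      simp only [commutatorElement_def]; group
    rw [h1, mem_center_iff.mp hc, mul_inv_cancel_right]
    exact (mem_center_iff.mp hc _).symm

/-- Some element of `P` outside the preimage of `Z(T)` commutes with `k`. -/
theorem exists_fix (B : Base hF π P) (hp : commutator A = ⊤) (h2 : IsPGroup 2 (center A)) (hm : 1 ≤ m)
    (hnc : ¬ IsCyclic (center A)) {k : A} {b : F} (hk : π k = (szData hF).p 0 b) :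
    ∃ x ∈ P, (∃ a c, π x = (szData hF).p a c ∧ a ≠ 0) ∧ x * k = k * x := by
  by_contra hcon
  push Not at hcon
  have hO := card_omega B hp h2 hm hnc
  obtain rfl := eq_one B hp h2 hm (ne_bot_of_nc hnc)
  have := EquivMaps.charP_two hF
  have hkk : k * k ∈ center A := by
    have hbb : b + b = 0 := CharTwo.add_self_eq_zero b
    rw [← B.ker, map_mul, hk, (szData hF).p_zero_mul, hbb, (szData hF).p_zero]
  have h1 := Abel.card_eq_ker_mul_range (cr B hk)
  have h3 : Nat.card (cr B hk).range ≤ 4 := by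
    rw [← hO]
    apply Nat.card_le_card_of_injective (Subgroup.inclusion (?_ : (cr B hk).range ≤ _))
      (Subgroup.inclusion_injective _)
    rintro _ ⟨x, rfl⟩
    show cr B hk x ^ 2 = 1
    apply Subtype.ext
    show ⁅(x : A), k⁆ ^ 2 = 1
    have hc : ⁅(x : A), k⁆ ∈ center A := (cr B hk x).2
    have h4 : ⁅(x : A), k * k⁆ = ⁅(x : A), k⁆ * (k * ⁅(x : A), k⁆ * k⁻¹) := by
      simp only [commutatorElement_def]; group
    rw [mem_center_iff.mp hc, mul_inv_cancel_right] at h4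
    rw [pow_two, ← h4, commutatorElement_eq_one_iff_mul_comm]
    exact mem_center_iff.mp hkk _
  have h4 : Nat.card (cr B hk).ker ≤ Nat.card B.Z0 := by
    have hmem : ∀ x : (cr B hk).ker, ((x : P) : A) ∈ B.Z0 := by
      intro x
      obtain ⟨a, c, hac⟩ := ((B.mem (x : P)).mp (x : P).2).1
      have h5 : ⁅((x : P) : A), k⁆ = 1 := congrArg Subtype.val x.2
      rw [commutatorElement_eq_one_iff_mul_comm] at h5
      by_cases ha : a = 0
      · subst ha
        exact ⟨(x : P).2, c, hac⟩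
      · exact absurd h5 (hcon _ (x : P).2 ⟨a, c, hac, ha⟩)
    refine Nat.card_le_card_of_injective (fun x => (⟨_, hmem x⟩ : B.Z0)) ?_
    intro x y hxy
    have h6 := congrArg (fun z : B.Z0 => (z : A)) hxy
    exact Subtype.ext (Subtype.ext h6)
  rw [card_P B h2] at h1
  rw [card_Z0 B h2] at h4
  have h5 : 0 < Nat.card (center A) := Nat.card_pos
  have h6 : Nat.card (center A) * (2 ^ (2 * 1 + 1) * 2 ^ (2 * 1 + 1)) ≤
      (Nat.card (center A) * 2 ^ (2 * 1 + 1)) * 4 := by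
    rw [h1]; exact Nat.mul_le_mul h4 h3
  have h7 : 2 ^ (2 * 1 + 1) = 8 := by norm_num
  rw [h7] at h6
  omega

/-- The statement in standard position. -/
theorem gamma_std (B : Base hF π P) (hp : commutator A = ⊤) (h2 : IsPGroup 2 (center A)) (hm : 1 ≤ m)
    (hnc : ¬ IsCyclic (center A)) {k1 k2 : A} {b1 b2 : F} (hk1 : π k1 = (szData hF).p 0 b1)
    (hk2 : π k2 = (szData hF).p 0 b2) (hP1 : k1 ∈ P) (hP2 : k2 ∈ P) (hb1 : b1 ≠ 0) (hb2 : b2 ≠ 0)
    (hb : b1 ≠ b2) : ∃ x, x * k1 = k1 * x ∧ ⁅x, k2⁆ ∈ center A ∧ ⁅x, k2⁆ ≠ 1 := by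
  obtain ⟨x, hx, ⟨a, b, hab, ha⟩, hxk⟩ := exists_fix B hp h2 hm hnc hk1
  refine ⟨x, hxk, ?_, ?_⟩
  · rw [← B.ker, map_commutatorElement, hab, hk2, commutatorElement_eq_one_iff_mul_comm, (szData hF).comm_zero]
  intro hcon
  rw [commutatorElement_eq_one_iff_mul_comm] at hcon
  have h1 := card_omega_le B hp h2 hm hx hab ha
  rw [card_omega B hp h2 hm hnc] at h1
  have h3 := card_fx B h2 hx
  obtain rfl := eq_one B hp h2 hm (ne_bot_of_nc hnc)
  have := EquivMaps.charP_two hF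
  -- three elements of `fx`
  have hf : ∀ k ∈ P, ∀ c, π k = (szData hF).p 0 c → x * k = k * x → (szData hF).p 0 c ∈ fx B hx := by
    intro k hk c hkc hc
    refine ⟨⟨k, hk, c, hkc⟩, ?_, hkc⟩
    apply Subtype.ext
    show ⁅x, k⁆ = 1
    rw [commutatorElement_eq_one_iff_mul_comm]
    exact hc
  have hf1 := hf k1 hP1 b1 hk1 hxk
  have hf2 := hf k2 hP2 b2 hk2 hcon
  have h4 : 2 < Nat.card (fx B hx) := by
    classical
    have := Fintype.ofFinite (fx B hx)
    have hinj : ∀ c d, (szData hF).p 0 c = (szData hF).p 0 d → c = d := fun c d h =>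
      ((szData hF).p_inj _ _ _ _ h).2
    let S : Finset (fx B hx) := {1, ⟨_, hf1⟩, ⟨_, hf2⟩}
    have hcard : S.card = 3 := by
      have h0 : ∀ c, c ≠ 0 → ∀ h : (szData hF).p 0 c ∈ fx B hx, (1 : fx B hx) ≠ ⟨_, h⟩ := by
        intro c hc h h'
        have h5 : (1 : ↥(Cfsg.Lie.Sz F (2 ^ (1 + 1)))) = (szData hF).p 0 c := congrArg Subtype.val h'
        rw [← (szData hF).p_zero] at h5
        exact hc (hinj _ _ h5).symm
      simp only [S]
      rw [Finset.card_insert_of_notMem, Finset.card_insert_of_notMem, Finset.card_singleton]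
      · simp only [Finset.mem_singleton]
        intro h
        exact hb (hinj _ _ (congrArg Subtype.val h))
      · simp only [Finset.mem_insert, Finset.mem_singleton, not_or]
        exact ⟨h0 _ hb1 _, h0 _ hb2 _⟩
    have h6 := Finset.card_le_univ S
    rw [hcard] at h6
    rw [Nat.card_eq_fintype_card]
    omega
  have h5 : 2 ^ (2 * 1 + 1) = 8 := by norm_num
  rw [h5] at h3
  have := Nat.mul_le_mul h4 h1
  omega

/-- **The statement on two commuting involutions of `A / Z(A)`.** -/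
theorem gamma (hp : commutator A = ⊤) (h2 : IsPGroup 2 (center A)) (hnc : ¬ IsCyclic (center A))
    (hm : 1 ≤ m) (hF : Fintype.card F = 2 ^ (2 * m + 1))
    (e : A ⧸ center A ≃* ↥(Cfsg.Lie.Sz F (2 ^ (m + 1)))) {k1 k2 : A} (h1 : k1 * k1 ∈ center A)
    (h2' : k2 * k2 ∈ center A) (h12 : ⁅k1, k2⁆ ∈ center A) (n1 : k1 ∉ center A) (n2 : k2 ∉ center A)
    (n12 : k1 * k2 ∉ center A) : ∃ x, x * k1 = k1 * x ∧ ⁅x, k2⁆ ∈ center A ∧ ⁅x, k2⁆ ≠ 1 := by
  classical
  have : Fact (Nat.Prime 2) := ⟨Nat.prime_two⟩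
  have := EquivMaps.charP_two hF
  obtain ⟨π, P, B⟩ := exists_base hm hF e
  -- a conjugate of `⟨k1, k2⟩` in `P`
  have hs1 : π k1 * π k1 = 1 := by rw [← map_mul]; exact (B.ker _).mpr h1
  have hs2 : π k2 * π k2 = 1 := by rw [← map_mul]; exact (B.ker _).mpr h2'
  have hs12 : π k1 * π k2 = π k2 * π k1 := by
    rw [← commutatorElement_eq_one_iff_mul_comm, ← map_commutatorElement]
    exact (B.ker _).mpr h12
  let R0 : ThreePrime.SzRel.Rel ↥(Cfsg.Lie.Sz F (2 ^ (m + 1))) F :=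
    ThreePrime.SzRel.ofGood (SzMatrix.good hF)
  have hT0 : ∀ x, x ∈ R0.T ↔ ∃ a b, x = (szData hF).p a b := by
    intro x
    constructor
    · rintro ⟨a, b, rfl⟩
      refine ⟨a, b + a * SzMatrix.theta hF a, ?_⟩
      show (SzMatrix.good hF).u a b = (SzMatrix.good hF).u a _
      rw [add_assoc, CharTwo.add_self_eq_zero, add_zero]
    · rintro ⟨a, b, rfl⟩
      exact ⟨a, b + a * SzMatrix.theta hF a, rfl⟩
  obtain ⟨Sy, hSy⟩ := R0.exists_sylow_eq hm hF
  have hz : ∀ s : ↥(Cfsg.Lie.Sz F (2 ^ (m + 1))), s * s = 1 → IsPGroup 2 (zpowers s) := by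
    intro s hs
    apply IsPGroup.of_card (n := if s = 1 then 0 else 1)
    rw [Nat.card_zpowers]
    split_ifs with h
    · rw [h, orderOf_one, pow_zero]
    · rw [pow_one]
      exact orderOf_eq_prime (by rw [pow_two, hs]) h
  have hle : zpowers (π k2) ≤ normalizer (zpowers (π k1) : Set _) := by
    rw [zpowers_le, mem_normalizer_iff]
    intro y
    have hcomm : ∀ y ∈ zpowers (π k1), π k2 * y = y * π k2 := by
      rintro _ ⟨n, rfl⟩
      exact (Commute.zpow_right (show Commute (π k2) (π k1) from hs12.symm) n)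
    constructor
    · intro hy
      rw [hcomm y hy, mul_inv_cancel_right]
      exact hy
    · intro hy
      have h3 := hcomm _ hy
      have h4 : y = π k2 * y * (π k2)⁻¹ := by
        have h5 : π k2 * (π k2 * y * (π k2)⁻¹) = π k2 * y := by rw [h3]; group
        exact (mul_left_cancel h5).symm
      rw [h4]; exact hy
  obtain ⟨Q, hQ⟩ := ((hz _ hs2).to_sup_of_normal_right' (hz _ hs1) hle).exists_le_sylow
  obtain ⟨g, hg⟩ := MulAction.exists_smul_eq (↥(Cfsg.Lie.Sz F (2 ^ (m + 1)))) Q Sy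
  have hconj : ∀ y ∈ (Q : Subgroup _), ∃ a b, g * y * g⁻¹ = (szData hF).p a b := by
    intro y hy
    rw [← hT0, ← hSy, ← hg]
    exact ⟨y, hy, rfl⟩
  obtain ⟨y, hy⟩ := B.surj g
  have hp1 : ∀ k : A, k * k ∈ center A → π k ∈ (Q : Subgroup _) → y * k * y⁻¹ ∈ P ∧
      ∃ b, π (y * k * y⁻¹) = (szData hF).p 0 b := by
    intro k hk hkQ
    obtain ⟨a, b, hab⟩ := hconj _ hkQ
    have h3 : π (y * k * y⁻¹) = (szData hF).p a b := by
      rw [map_mul, map_mul, map_inv, hy, hab]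
    have h4 : y * k * y⁻¹ * (y * k * y⁻¹) ∈ center A := by
      have h5 : y * k * y⁻¹ * (y * k * y⁻¹) = y * (k * k) * y⁻¹ := by group
      rw [h5, mem_center_iff.mp hk y, mul_inv_cancel_right]
      exact hk
    have ha : a = 0 := by
      have h5 : π (y * k * y⁻¹ * (y * k * y⁻¹)) = 1 := (B.ker _).mpr h4
      rw [map_mul, h3, (szData hF).p_sq, ← (szData hF).p_zero] at h5
      exact pow_eq_zero_iff (by positivity) |>.mp ((szData hF).p_inj _ _ _ _ h5).2
    subst ha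
    refine ⟨(B.mem _).mpr ⟨⟨0, b, h3⟩, ?_⟩, b, h3⟩
    obtain ⟨n, hn⟩ := h2 ⟨_, h4⟩
    refine ⟨n + 1, ?_⟩
    rw [_root_.pow_succ', pow_mul, pow_two]
    exact congrArg Subtype.val hn
  obtain ⟨hP1, b1, hb1⟩ := hp1 k1 h1 (hQ (mem_sup_right (mem_zpowers _)))
  obtain ⟨hP2, b2, hb2⟩ := hp1 k2 h2' (hQ (mem_sup_left (mem_zpowers _)))
  have hback : ∀ k : A, y * k * y⁻¹ ∈ center A → k ∈ center A := by
    intro k hk
    have h3 : k = y⁻¹ * (y * k * y⁻¹) * y := by group
    rw [h3]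
    have h4 := mem_center_iff.mp hk y⁻¹
    rw [h4, inv_mul_cancel_right]
    exact hk
  have hb1' : b1 ≠ 0 := by
    rintro rfl
    exact n1 (hback _ ((B.ker _).mp (by rw [hb1, (szData hF).p_zero])))
  have hb2' : b2 ≠ 0 := by
    rintro rfl
    exact n2 (hback _ ((B.ker _).mp (by rw [hb2, (szData hF).p_zero])))
  have hb12 : b1 ≠ b2 := by
    rintro rfl
    apply n12
    apply hback
    apply (B.ker _).mp
    have h3 : y * (k1 * k2) * y⁻¹ = (y * k1 * y⁻¹) * (y * k2 * y⁻¹) := by group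
    rw [h3, map_mul, hb1, hb2, (szData hF).p_zero_mul, CharTwo.add_self_eq_zero, (szData hF).p_zero]
  obtain ⟨x, hx1, hx2, hx3⟩ := gamma_std B hp h2 hm hnc hb1 hb2 hP1 hP2 hb1' hb2' hb12
  refine ⟨y⁻¹ * x * y, ?_, ?_, ?_⟩
  · have h3 : x * (y * k1 * y⁻¹) = y * k1 * y⁻¹ * x := hx1
    calc y⁻¹ * x * y * k1 = y⁻¹ * (x * (y * k1 * y⁻¹)) * y := by group
      _ = y⁻¹ * (y * k1 * y⁻¹ * x) * y := by rw [h3]
      _ = k1 * (y⁻¹ * x * y) := by group
  · apply hback
    have h3 : y * ⁅y⁻¹ * x * y, k2⁆ * y⁻¹ = ⁅x, y * k2 * y⁻¹⁆ := by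
      simp only [commutatorElement_def]; group
    rw [h3]; exact hx2
  · intro h
    apply hx3
    have h3 : y * ⁅y⁻¹ * x * y, k2⁆ * y⁻¹ = ⁅x, y * k2 * y⁻¹⁆ := by
      simp only [commutatorElement_def]; group
    rw [← h3, h]
    group

end Cfsg.Agent.OddHalf.D9.RankTwo.SzGamma
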