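import Cfsg.Agent.OddHalf.D9.RankTwo.SzGamma
import Cfsg.Agent.OddHalf.D9.RankTwo.StdFalse
import Cfsg.Agent.OddHalf.D9.Cut

/-!
# The row: `K / Z(K)` a Suzuki group, `Z(K)` a noncyclic 2-group
-/

set_option autoImplicit false

namespace Cfsg.Agent.OddHalf.D9.RankTwo.SzRow

open Subgroup Cfsg
open Cfsg.Agent.OddHalf.Iface
open Cfsg.Agent.OddHalf.D9.RankTwo.Core
open Cfsg.Agent.OddHalf.D9.RankTwo.StdFalse

universe u

theorem card_ker (A : Type*) [Group A] :
    Nat.card {z : center A // z * z = 1} = Nat.card (powMonoidHom (α := center A) 2).ker := by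
  refine Nat.card_congr (Equiv.subtypeEquivRight fun z => ?_)
  show z * z = 1 ↔ z ^ 2 = 1
  rw [pow_two]

/-- **The row.** -/
theorem false_of_sz {G : Type u} [Group G] (T : MainTI.{u}) (R : Rows) (C : Ctx G) {K : Subgroup G}
    (hK : IsStandardSubgroup K) (h2 : IsPGroup 2 (center ↥K)) (hnc : ¬ IsCyclic (center ↥K))
    (hX : Cut.XSz (↥K ⧸ center ↥K)) : False := by
  have := C.fin
  obtain ⟨F, _, _, m, hm, hF, ⟨e⟩⟩ := hX
  have hp : _root_.commutator ↥K = ⊤ := (show Group.IsPerfect ↥K from hK.1.1).commutator_eq_top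
  obtain ⟨π, P, B⟩ := GH.Cov.SzCover.exists_base hm hF e
  refine std_false T R C hK ?_ (gamma_of_inner ?_ ?_)
  · rw [card_omg, card_ker]
    exact SzGamma.card_omega B hp h2 hm hnc
  · intro u hu huu _
    obtain ⟨a, ha⟩ := StdSz.CoverD.exists_inner hp hm hF e hu (k := 1) (by rw [pow_one, pow_two, huu])
    refine ⟨a, a.2, (a : G)⁻¹ * u, mem_centralizer_iff.mpr fun x hx => (ha x hx).symm, by group⟩
  · intro k1 k2 h1 h2' h12 n1 n2 n12
    exact SzGamma.gamma hp h2 hnc hm hF e h1 h2' h12 n1 n2 n12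

end Cfsg.Agent.OddHalf.D9.RankTwo.SzRow
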