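import Cfsg.Agent.OddHalf.D9.RankTwo.Gamma
import Cfsg.Agent.OddHalf.D9.RankTwo.Double
import Cfsg.Agent.OddHalf.D9.RankTwo.OutTwo
import Cfsg.Agent.BabyU.KEqEFacts

/-!
# GAMMA for `K / Z(K) ≅ ²E₆(2)`
-/

set_option autoImplicit false

namespace Cfsg.Agent.OddHalf.D9.RankTwo.TwESix

open Subgroup Cfsg
open Cfsg.Agent.TwoESix.Cover Cfsg.Agent.BabyU.KEqE

universe u v

/-- the facts of `Gamma` from the facts of `BabyU.KEqE` -/
theorem facts_of {E : Type v} [Group E] {R : Set E} {Q : E → Subgroup E} (F : EF R Q)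
    (hperf : ∀ r ∈ R, ⁅centralizer ({r} : Set E), centralizer ({r} : Set E)⁆ = centralizer ({r} : Set E))
    (hout : ∀ φ ψ : MulAut E, φ * φ = 1 → ψ * ψ = 1 → φ * ψ = ψ * φ →
      (∃ x, φ = MulAut.conj x) ∨ (∃ x, ψ = MulAut.conj x) ∨ ∃ x, φ * ψ = MulAut.conj x) :
    Gamma.Facts E R where
  cen := by
    rw [eq_bot_iff]
    intro x hx
    exact mem_bot.2 (F.cen x fun y => (mem_center_iff.1 hx y).symm)
  perf := hperf
  inv := F.aut
  fix := by
    intro b hbb hb1 hbR φ hφb hφ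
    obtain ⟨w, hw, -, -, h⟩ := F.glue hbb hb1 hbR φ hφb hφ
    rcases h with h | h | h | h
    · exact ⟨1, by rw [h, map_one], Or.inl rfl⟩
    · exact ⟨b, h, Or.inr (Or.inl rfl)⟩
    · exact ⟨w, h, Or.inr (Or.inr (Or.inl hw))⟩
    · exact ⟨b * w, h, Or.inr (Or.inr (Or.inr (by rwa [← mul_assoc, hbb, one_mul])))⟩
  fixR := by
    intro b hb φ hφ
    exact F.Qcent b hb φ fun x hx => hφ x (F.w_comm hb hx).symm
  out := hout

section

variable {F : Type*} [Field F] [Fintype F] {hF : Fintype.card F = 2 ^ 2}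

/-- **GAMMA** for a perfect group `K` with centre a 2-group and `K / Z(K) = E` -/
theorem gamma_of [Finite HB] {E : Type v} [Group E] (hcard : Nat.card HB ≤ Nat.card E) {R : Set E}
    (H : Cfsg.Agent.BabyU.OutCount.Hyp hF R) {f : Fin 10 → E} (hf : Cfsg.Agent.BabyU.OutFree.GG f)
    (hfR : ∀ i, f i ∈ R) {Q : E → Subgroup E} (FF : EF R Q)
    (hperf : ∀ r ∈ R, ⁅centralizer ({r} : Set E), centralizer ({r} : Set E)⁆ = centralizer ({r} : Set E))
    {G : Type u} [Group G] [Finite G] {K : Subgroup G} (hK : commutator ↥K = ⊤) (hZ : IsPGroup 2 (center ↥K))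
    (hne : center ↥K ≠ ⊥) (e : ↥K ⧸ center ↥K ≃* E) {U : Subgroup G}
    (hU : ∀ u ∈ U, u * u = 1) (h4 : Nat.card U = 4) (hUK : U ≤ normalizer (K : Set G))
    (hUC : U ⊓ centralizer (K : Set G) = ⊥)
    (hN : ∀ u ∈ U, u ≠ 1 → ∀ k ∈ K, k * u = u * k → k ∈ normalizer (U : Set G)) : False := by
  let π : ↥K →* E := e.toMonoidHom.comp (QuotientGroup.mk' (center ↥K))
  have hπ : Function.Surjective π := e.surjective.comp (QuotientGroup.mk'_surjective _)
  have hker : π.ker = center ↥K := by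
    ext x
    rw [MonoidHom.mem_ker]
    show e (QuotientGroup.mk' (center ↥K) x) = 1 ↔ _
    rw [map_eq_one_iff e e.injective, ← MonoidHom.mem_ker, QuotientGroup.ker_mk']
  obtain ⟨M, _, hcov⟩ := Double.exists_double hK hπ hker hZ hne
  have hE : ∃ a b : E, ¬ Commute a b := by
    by_contra hcon
    push Not at hcon
    have hall : ∀ x : E, x = 1 := fun x => FF.cen x fun y => hcon x y
    obtain ⟨a, ha, -⟩ := FF.roots.spe_ex
    exact FF.roots.ne_one a ha (hall a)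
  exact Gamma.gamma ⟨hK, hπ, hker⟩ (facts_of FF hperf
    (OutTwo.out_of hcov hcard hE H hf hfR FF.aut)) hU h4 hUK hUC hN

end

end Cfsg.Agent.OddHalf.D9.RankTwo.TwESix
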